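import Cfsg.Agent.Lib.FischerOuter90.Chart
import Cfsg.Agent.Lib.FischerMTypes.Aut22.Fix
import Cfsg.Agent.Lib.FischerAut6.Basic

/-!
Type M(22): every outer automorphism of order two is conjugate to the symmetry of the diagram or
its product with the base transposition, a fixed neighbour, or both.
-/

set_option autoImplicit false
set_option maxRecDepth 20000
set_option Elab.async false
set_option linter.unusedSectionVars false
set_option linter.style.haveILetI false

namespace Cfsg.Agent.Lib.FischerOuter90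

open Cfsg.Agent.Lib.CosetEnum Cfsg.Agent.Lib.FischerExist27 Cfsg.Agent.Lib.FischerM23C90.Trace
open Cfsg.Agent.Lib.FischerMTypes Cfsg.Agent.Lib.FischerMTypes.Basic
  Cfsg.Agent.Lib.FischerMTypes.PointModel
open Cfsg.Agent.Lib.FischerMTypes.TraceCounts (Sys)
open Cfsg.Agent.Lib.FischerAut6 (inn mul_inn_mul_inv mem_image_of_aut rigid)
open Cfsg.Agent.Lib.G24 (K4)
open Cfsg.Agent.Lib.FischerUniq91.Coord
open Cfsg.Agent.Lib.FischerUniq91.Trace (J_smul_left)
open Cfsg.Agent.Lib.FischerMTypes.Primitive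

variable {Q : Type*} [Group Q] [Finite Q] {E : Set Q} {π : ℕ → Q}
variable {F : Type} [Field F] [Fintype F]

theorem unit_iso' (i : Fin 6) : Coord.Iso M3 (unit i) := Coord.unit_iso (by decide +kernel) i

theorem adj_ok : ∀ i : Fin 6, ∀ j : Fin 6, i.1 + 1 = j.1 → J M3 (unit i) (unit j) = 1 := by decide +kernel

theorem K4_norm : ∀ x : K4, x ≠ 0 → x * bar x = 1 := by decide +kernel

/-- the symmetry, its coordinates and the classification data -/
structure Data (M : Model E π) (S : Sys E F) (K : Coord (S.ctx (π basePt) (M.mem _ (by decide))) M3)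
    (s : MulAut Q) : Prop where
  hK : ∀ i, K.P (unit i) = π (pathPt i)
  hs : ∀ i < 3510, s (π i) = π (sig i)
  hss : s * s = 1

variable {M : Model E π} {S : Sys E F} {K : Coord (S.ctx (π basePt) (M.mem _ (by decide))) M3}
variable {s : MulAut Q} (H : Data M S K s)

namespace Data

include H in
theorem fix_a : s (π basePt) = π basePt := by
  have h := path_fix
  rw [Bool.and_eq_true, Nat.beq_eq] at h
  rw [H.hs _ (by decide), h.1]

include H in
theorem sP {v : V} (hv : Coord.Iso M3 v) : s (K.P v) = K.P (barV v) := sigma_P M H.hs H.hK v hv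

include H in
theorem fix_b : s (K.P (unit 0)) = K.P (unit 0) := by rw [H.sP (unit_iso' 0), barV_unit]

include H in
/-- a map fixing the six points is scalar -/
theorem scalar {h : Lin} (hh : IsU h) (hu : ∀ i, K.P (h (unit i)) = K.P (unit i)) :
    ∃ c : K4, c ≠ 0 ∧ ∀ v, h v = c • v := by
  have hc : ∀ i, ∃ c : K4, c ≠ 0 ∧ h (unit i) = c • unit i := fun i => by
    obtain ⟨c, hc, e⟩ := (K.P_eq (unit_iso' i) (hh.iso (unit_iso' i))).1 (hu i).symm
    exact ⟨c, hc, e⟩
  choose c hc he using hc
  have step : ∀ i j : Fin 6, i.1 + 1 = j.1 → c i = c j := fun i j hij => by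
    have e := hh (unit i) (unit j)
    rw [he, he, J_smul_left, J_smul_right, adj_ok i j hij, mul_one] at e
    have e2 := K4_norm _ (hc j)
    calc c i = c i * (c j * bar (c j)) := by rw [e2, mul_one]
      _ = c j * (c i * bar (c j)) := by ring
      _ = c j := by rw [e, mul_one]
  have hall : ∀ i, c i = c 0 := by
    have s1 := step 0 1 rfl; have s2 := step 1 2 rfl; have s3 := step 2 3 rfl
    have s4 := step 3 4 rfl; have s5 := step 4 5 rfl
    intro i; fin_cases i
    exacts [rfl, s1.symm, (s1.trans s2).symm, ((s1.trans s2).trans s3).symm,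
      (((s1.trans s2).trans s3).trans s4).symm, ((((s1.trans s2).trans s3).trans s4).trans s5).symm]
  refine ⟨c 0, hc 0, fun v => ?_⟩
  conv_lhs => rw [eq_sum v]
  conv_rhs => rw [eq_sum v]
  simp only [map_sum, map_smul, Finset.smul_sum, he, hall, smul_smul, mul_comm (c 0)]

include H in
theorem outer : s ∉ (MulAut.conj : Q →* MulAut Q).range := by
  rintro ⟨x, hx⟩
  have hxa : x * π basePt * x⁻¹ = π basePt := by
    rw [← MulAut.conj_apply, hx, H.fix_a]
  have hmem : x ∈ Subgroup.closure (perp E (π basePt)) := by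
    rw [StabilizerM22.centralizer_eq S (M.mem _ (by decide)), Subgroup.mem_centralizer_singleton_iff]
    exact mul_inv_eq_iff_eq_mul.1 hxa
  obtain ⟨h, hh, -, ha⟩ := lin_of_mem K hmem
  have key : ∀ v, Coord.Iso M3 v → K.P (h v) = K.P (barV v) := fun v hv => by
    rw [← ha v hv, ← MulAut.conj_apply, hx, H.sP hv]
  obtain ⟨c, hc, e⟩ := H.scalar hh fun i => by rw [key _ (unit_iso' i), barV_unit]
  obtain ⟨i272, i545, i817, -, b545, -, -⟩ := three_ok
  have e545 := key _ i545
  rw [e, K.P_smul i545 hc, b545] at e545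
  obtain ⟨d, -, hd⟩ := (K.P_eq i545 i817).1 e545
  exact (by decide +kernel : ∀ d : K4, vec 817 ≠ d • vec 545) d hd

theorem conj_b {v : V} (hv : Coord.Iso M3 v) :
    inn Q (K.P (unit 0)) (K.P v) = K.P (tvI M3 (unit 0) v) := by
  rw [MulAut.conj_apply, inv_eq S.hD.1 (K.P_mem (unit_iso' 0)).1, K.P_conj (unit_iso' 0) hv]

/-- agreement on the neighbours of a fixed point -/
theorem agree {φ ψ : MulAut Q} (ha : φ (π basePt) = ψ (π basePt))
    (hp : ∀ v, Coord.Iso M3 v → φ (K.P v) = ψ (K.P v)) : φ = ψ ∨ φ = ψ * inn Q (π basePt) := by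
  have h := rigid S (φ := ψ⁻¹ * φ) (M.mem _ (by decide : basePt < 3510))
    (by rw [MulAut.mul_apply, ha, MulAut.inv_apply_self])
    (fun y hy => by
      obtain ⟨v, hv, rfl⟩ := K.exists_P hy
      rw [MulAut.mul_apply, hp v hv, MulAut.inv_apply_self])
  rcases h with h | h
  · exact Or.inl (inv_mul_eq_one.1 h).symm
  · exact Or.inr (by rw [← h, mul_inv_cancel_left])

include H in
/-- the four standard representatives -/
theorem classify_four (hindex : (inn Q).range.index = 2) {t : MulAut Q} (ht : orderOf t = 2)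
    (hto : t ∉ (MulAut.conj : Q →* MulAut Q).range) :
    IsConj t s ∨ IsConj t (s * inn Q (π basePt)) ∨ IsConj t (s * inn Q (K.P (unit 0))) ∨
      IsConj t (s * inn Q (K.P (unit 0)) * inn Q (π basePt)) := by
  have haE : π basePt ∈ E := M.mem _ (by decide)
  obtain ⟨d, hd, htd⟩ := Aut22.exists_fixed S t ht
  obtain ⟨g, hg⟩ := S.hprim.1 d hd _ haE
  set t' := inn Q g * t * (inn Q g)⁻¹ with ht'
  have hconj : IsConj t t' := isConj_iff.2 ⟨inn Q g, rfl⟩
  have hfa : t' (π basePt) = π basePt := by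
    rw [← hg, ht', MulAut.mul_apply, MulAut.mul_apply,
      show (inn Q g)⁻¹ (g * d * g⁻¹) = d from (MulEquiv.symm_apply_eq _).2 (by rw [MulAut.conj_apply]), htd,
      MulAut.conj_apply]
  have hinv : ∀ x, t' (t' x) = x := by
    intro x
    have h1 : t' * t' = 1 := by
      have h := pow_orderOf_eq_one t
      rw [ht, sq] at h
      rw [ht']
      calc _ = inn Q g * (t * t) * (inn Q g)⁻¹ := by group
        _ = 1 := by rw [h, mul_one, mul_inv_cancel]
    rw [← MulAut.mul_apply, h1, MulAut.one_apply]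
  have ht'o : t' ∉ (inn Q).range := fun h => hto (by
    have := FischerAut6.inn_range_normal.conj_mem _ h (inn Q g)⁻¹
    rwa [ht', show (inn Q g)⁻¹ * (inn Q g * t * (inn Q g)⁻¹) * (inn Q g)⁻¹⁻¹ = t by group] at this)
  obtain ⟨k, hk⟩ : s⁻¹ * t' ∈ (inn Q).range := by
    rw [Subgroup.mul_mem_iff_of_index_two hindex, Subgroup.inv_mem_iff]
    exact iff_of_false H.outer ht'o
  have htk : t' = s * inn Q k := by rw [hk, mul_inv_cancel_left]
  have hkc : k ∈ Subgroup.closure (perp E (π basePt)) := by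
    rw [StabilizerM22.centralizer_eq S haE, Subgroup.mem_centralizer_singleton_iff]
    have h := hfa
    rw [htk, MulAut.mul_apply] at h
    have h2 : inn Q k (π basePt) = π basePt := s.injective (h.trans H.fix_a.symm)
    exact mul_inv_eq_iff_eq_mul.1 h2
  obtain ⟨h, hh, hdet, hact⟩ := lin_of_mem K hkc
  have htP : ∀ v, Coord.Iso M3 v → t' (K.P v) = K.P (barV (h v)) := fun v hv => by
    rw [htk, MulAut.mul_apply, show inn Q k (K.P v) = K.P (h v) from hact v hv, H.sP (hh.iso hv)]
  have hi : ∀ v, Coord.Iso M3 v → Coord.Iso M3 (barV (h v)) := fun v hv => iso_barV (hh.iso hv)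
  have hu2 : IsU (barL h ∘ₗ h) := IsU.comp (fun v w => by
    show J M3 (barV (h (barV v))) (barV (h (barV w))) = _
    rw [J_barV, hh, J_barV, bar_bar]) hh
  obtain ⟨c, hc0, hc⟩ := H.scalar hu2 fun i => by
    show K.P (barV (h (barV (h (unit i))))) = _
    rw [← htP _ (hi _ (unit_iso' i)), ← htP _ (unit_iso' i), hinv]
  have hff : ∀ v, barV (h (barV (h v))) = c • v := hc
  have hc1 : c = 1 := by
    have e1 := hff (barV (h (unit 0)))
    rw [hff (unit 0), map_smul, barV_smul] at e1
    have hne := (hi _ (unit_iso' 0)).2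
    refine (bar_eq_self c (smul_left_injective K4 hne e1)).resolve_left hc0
  obtain ⟨k', hk'U, hk'd, hk'⟩ := classify hh hdet fun v => by rw [hff, hc1, one_smul]
  obtain ⟨g0, hg0, hact0⟩ := exists_of_lin K hk'U hk'd
  have hga : inn Q g0 (π basePt) = π basePt := by
    rw [MulAut.conj_apply]; exact TraceCounts.Sys.closure_fix hg0
  set t'' := (inn Q g0)⁻¹ * t' * inn Q g0 with ht''
  have hconj2 : IsConj t t'' := hconj.trans (isConj_iff.2 ⟨(inn Q g0)⁻¹, by rw [ht'', inv_inv]⟩)
  have hfa2 : t'' (π basePt) = π basePt := by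
    rw [ht'', MulAut.mul_apply, MulAut.mul_apply, hga, hfa]
    conv_lhs => rw [← hga]
    rw [MulAut.inv_apply_self]
  have step : ∀ v w, Coord.Iso M3 v → Coord.Iso M3 w → barV (h (k' v)) = k' w → t'' (K.P v) = K.P w := by
    intro v w hv hw he
    rw [ht'', MulAut.mul_apply, MulAut.mul_apply, show inn Q g0 (K.P v) = K.P (k' v) from hact0 v hv,
      htP _ (hk'U.iso hv), he, ← hact0 w hw, ← MulAut.conj_apply]
    exact MulAut.inv_apply_self _ _ _
  rcases hk' with hk' | hk'
  · rcases agree (M := M) (K := K) (φ := t'') (ψ := s) (by rw [hfa2, H.fix_a]) (fun v hv => by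
      rw [H.sP hv, step v _ hv (iso_barV hv) (hk' v)]) with e' | e'
    · exact Or.inl (e' ▸ hconj2)
    · exact Or.inr (Or.inl (e' ▸ hconj2))
  · rcases agree (M := M) (K := K) (φ := t'') (ψ := s * inn Q (K.P (unit 0))) (by
      rw [hfa2, MulAut.mul_apply, MulAut.conj_apply, (K.P_mem (unit_iso' 0)).2.2.symm.eq,
        mul_inv_cancel_right, H.fix_a])
      (fun v hv => by
        rw [step v _ hv (iso_barV (K.iso_tvI (unit_iso' 0) hv)) (hk' v), MulAut.mul_apply, conj_b (M := M) (K := K) hv,
          H.sP (K.iso_tvI (unit_iso' 0) hv)]) with e' | e'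
    · exact Or.inr (Or.inr (Or.inl (e' ▸ hconj2)))
    · exact Or.inr (Or.inr (Or.inr (e' ▸ hconj2)))

end Data

end Cfsg.Agent.Lib.FischerOuter90
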