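import Cfsg.Agent.Lib.FischerOuter90.ChartChecks

/-!
Type M(22): at a transposition fixed by the symmetry of the diagram the symmetry is the conjugation
of the coordinates of a path of six fixed neighbours.
-/

set_option autoImplicit false
set_option maxRecDepth 20000
set_option Elab.async false
set_option linter.unusedSectionVars false
set_option linter.style.haveILetI false

namespace Cfsg.Agent.Lib.FischerOuter90

open Cfsg.Agent.Lib.CosetEnum Cfsg.Agent.Lib.FischerExist27 Cfsg.Agent.Lib.FischerM23C90.Trace
open Cfsg.Agent.Lib.FischerMTypes.Basic Cfsg.Agent.Lib.FischerMTypes.PointModel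
open Cfsg.Agent.Lib.FischerMTypes.TraceCounts (Sys)
open Cfsg.Agent.Lib.G24 (K4)
open Cfsg.Agent.Lib.FischerUniq91.Coord

theorem sig_lt {i : ℕ} (hi : i < 3510) : sig i < 3510 := by
  have h := allBelow_iff.1 sig_invol i hi
  simp only [Bool.and_eq_true, Nat.blt_eq] at h
  exact h.1

variable {Q : Type*} [Group Q] [Finite Q] {E : Set Q} {π : ℕ → Q} (M : Model E π)
variable {F : Type} [Field F] [Fintype F]

attribute [local irreducible] sig act patB

include M in
/-- coordinates at the base point along the path -/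
theorem exists_chart (S : Sys E F) :
    ∃ K : Coord (S.ctx (π basePt) (M.mem _ (by decide))) M3, ∀ i, K.P (unit i) = π (pathPt i) := by
  have h := path_fix
  rw [Bool.and_eq_true, Nat.beq_eq, allBelow_iff] at h
  refine exists_of_path _ (fun i => ?_) fun i j => ?_
  · have h2 := h.2 i.1 i.2
    rw [Bool.and_eq_true, Nat.beq_eq, Nat.beq_eq] at h2
    exact ⟨M.mem _ (pathPt_ok i).1, fun e => (pathPt_ok i).2 (M.inj _ (pathPt_ok i).1 _ (by decide) e),
      (M.comm_iff (by decide) (pathPt_ok i).1).2 h2.2⟩
  · rw [M.comm_iff (pathPt_ok i).1 (pathPt_ok j).1, ← path_pattern i j, Nat.beq_eq]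

variable {C : Ctx E (π basePt) F} {K : Coord C M3}

/-- the symmetry is the conjugation at this vector -/
abbrev Good (K : Coord C M3) (s : MulAut Q) (v : V) : Prop :=
  Coord.Iso M3 v ∧ s (K.P v) = K.P (barV v)

theorem good_smul {s : MulAut Q} {v : V} (h : Good K s v) {c : K4} (hc : c ≠ 0) : Good K s (c • v) := by
  refine ⟨iso_smul h.1 hc, ?_⟩
  rw [K.P_smul h.1 hc, h.2, barV_smul, K.P_smul (iso_barV h.1) (fun e => hc (by rw [← bar_bar c, e, map_zero]))]

theorem good_tvI {s : MulAut Q} {v w : V} (hv : Good K s v) (hw : Good K s w) : Good K s (tvI M3 v w) := by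
  refine ⟨K.iso_tvI hv.1 hw.1, ?_⟩
  rw [← K.P_conj hv.1 hw.1, map_mul, map_mul, hv.2, hw.2, K.P_conj (iso_barV hv.1) (iso_barV hw.1)]
  congr 1
  show barV w + J M3 (barV w) (barV v) • barV v = barV (w + J M3 w v • v)
  rw [barV_add, barV_smul, J_barV]

theorem good_mark {s : MulAut Q} {v : V} (hv : Good K s v) {seen : ℕ}
    (hs : ∀ n, seen.testBit n = true → Good K s (vec n)) :
    ∀ n, (mark v seen).testBit n = true → Good K s (vec n) := by
  intro n hn
  simp only [mark, Nat.testBit_or, Bool.or_eq_true] at hn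
  have key : ∀ c : K4, c ≠ 0 → (1 <<< code (c • v)).testBit n = true → Good K s (vec n) := fun c hc h => by
    rw [Nat.one_shiftLeft, Nat.testBit_two_pow, decide_eq_true_eq] at h
    rw [← h, vec_code]
    exact good_smul hv hc
  rcases hn with ((h | h) | h) | h
  exacts [hs n h, key _ (by decide) h, key _ (by decide) h, key _ (by decide) h]

theorem good_grow {s : MulAut Q} : ∀ (l : List (ℕ × ℕ)) (seen : ℕ),
    (∀ n, seen.testBit n = true → Good K s (vec n)) →
    ∀ n, (grow l seen).testBit n = true → Good K s (vec n) := by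
  intro l
  induction l with
  | nil => intro seen hs n hn; exact hs n hn
  | cons p l ih =>
    intro seen hs
    refine ih _ ?_
    split
    · rename_i h
      rw [Bool.and_eq_true] at h
      exact good_mark (good_tvI (hs _ h.1) (hs _ h.2)) hs
    · exact hs

attribute [local irreducible] grow seen0

include M in
/-- the symmetry in the coordinates -/
theorem sigma_P {s : MulAut Q} (hs : ∀ i < 3510, s (π i) = π (sig i))
    (hK : ∀ i, K.P (unit i) = π (pathPt i)) : ∀ v, Coord.Iso M3 v → s (K.P v) = K.P (barV v) := by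
  have h := path_fix
  rw [Bool.and_eq_true, Nat.beq_eq, allBelow_iff] at h
  have hq : s (π basePt) = π basePt := by rw [hs _ (by decide), h.1]
  have hu : ∀ i, s (K.P (unit i)) = K.P (unit i) := fun i => by
    have h2 := h.2 i.1 i.2
    rw [Bool.and_eq_true, Nat.beq_eq, Nat.beq_eq] at h2
    rw [hK, hs _ (pathPt_ok i).1]
    exact congrArg π h2.1
  have iu : ∀ i, Coord.Iso M3 (unit i) := Coord.unit_iso (by decide +kernel)
  have memD : ∀ {x}, x ∈ E → s x ∈ E := fun {x} hx => by
    obtain ⟨i, hi, rfl⟩ := M.surj x hx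
    rw [hs i hi]
    exact M.mem _ (sig_lt hi)
  have image : ∀ v, Coord.Iso M3 v → ∃ w, Coord.Iso M3 w ∧ K.P w = s (K.P v) ∧
      ∀ k, (J M3 w (unit k) = 0 ↔ J M3 v (unit k) = 0) := by
    intro v hv
    have hm := K.P_mem hv
    obtain ⟨w, hw, e⟩ := K.exists_P (y := s (K.P v))
      ⟨memD hm.1, fun e => hm.2.1 (s.injective (e.trans hq.symm)), by simpa [hq] using hm.2.2.map s.toMonoidHom⟩
    refine ⟨w, hw, e, fun k => ?_⟩
    rw [← K.P_comm hw (iu k), ← K.P_comm hv (iu k), e]
    constructor
    · intro hc
      rw [← hu k] at hc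
      simpa using hc.map s.symm.toMonoidHom
    · intro hc
      have := hc.map s.toMonoidHom
      simpa [hu k] using this
  have seeds : ∀ m ∈ ([17, 1092, 1088, 273] : List ℕ), Good K s (vec m) := by
    intro m hm
    obtain ⟨hi, hb, hone⟩ := pattern_one m hm
    obtain ⟨w, hw, e, hp⟩ := image _ hi
    obtain ⟨c, hc⟩ := hone ⟨code w, code_lt w⟩ (by rw [vec_code]; exact hw) (by rw [vec_code]; exact hp)
    rw [vec_code] at hc
    refine ⟨hi, ?_⟩
    rw [← e, hb, hc, K.P_smul hi]
    intro h0
    exact hw.2 (by rw [hc, h0, zero_smul])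
  have hzero : ∀ n, (0 : ℕ).testBit n = true → Good K s (vec n) := by simp
  have gu : ∀ i, Good K s (unit i) := fun i => ⟨iu i, by rw [hu, barV_unit]⟩
  have hreal : ∀ n, (grow ChartData.realSteps seen0).testBit n = true → Good K s (vec n) := by
    refine good_grow _ _ ?_
    unfold seen0
    exact good_mark (gu 0) (good_mark (gu 1) (good_mark (gu 2) (good_mark (gu 3) (good_mark (gu 4) (good_mark (gu 5)
      (good_mark (seeds 17 (by simp)) (good_mark (seeds 1092 (by simp)) (good_mark (seeds 1088 (by simp))
      (good_mark (seeds 273 (by simp)) hzero)))))))))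
  obtain ⟨i272, i545, i817, b272, b545, n545, p272⟩ := three_ok
  have g272 : s (K.P (vec 272)) = K.P (vec 272) := by
    rw [(hreal 272 grow_real).2, b272]
  have g545 : Good K s (vec 545) := by
    obtain ⟨w, hw, e, hp⟩ := image _ i545
    obtain ⟨c, hc⟩ := pattern_three ⟨code w, code_lt w⟩ (by rw [vec_code]; exact hw)
      (by rw [vec_code]; exact hp)
    rw [vec_code] at hc
    have hc0 : c ≠ 0 := fun h0 => hw.2 (by rcases hc with r | r | r <;> rw [r, h0, zero_smul])
    have hne : K.P (vec 545) ≠ K.P (vec 272) := fun he => by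
      obtain ⟨d, -, hd⟩ := (K.P_eq i272 i545).1 he.symm
      exact n545 d hd
    have index : ∀ v, Coord.Iso M3 v → (∀ k, (J M3 v (unit k) = 0 ↔ J M3 (vec 545) (unit k) = 0)) →
        s (K.P v) = K.P v → K.P v = π 176 := by
      intro v hv hpv hfix
      obtain ⟨k, hk, ek⟩ := M.surj _ (K.P_mem hv).1
      have hsk : sig k = k := by
        have hlt := sig_lt hk
        exact M.inj _ hlt k hk (by rw [← hs k hk, ek, hfix])
      have hpat : patB k = true := by
        unfold patB
        rw [Bool.and_eq_true, Nat.beq_eq, allBelow_iff]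
        refine ⟨(M.comm_iff (by decide) hk).1 (ek ▸ (K.P_mem hv).2.2), fun i hi => ?_⟩
        have hz := zeros_545 ⟨i, hi⟩
        rw [← hpv, ← K.P_comm hv (iu _), Commute.symm_iff, hK, ← ek, M.comm_iff (pathPt_ok _).1 hk] at hz
        change act ([17, 104, 22, 97, 270, 92].getD i 0) k = k ↔ _ at hz
        simp only at hz
        cases hb : [true, false, true, true, true, false].getD i false
        · cases hq' : Nat.beq (act ([17, 104, 22, 97, 270, 92].getD i 0) k) k
          · rfl
          · rw [hb, ← Nat.beq_eq, hq'] at hz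
            exact absurd (hz.1 rfl) Bool.false_ne_true
        · rw [hb, ← Nat.beq_eq] at hz
          exact hz.2 rfl
      have := allBelow_iff.1 pat_fixed k hk
      rw [hsk, Nat.beq_refl, hpat] at this
      simp only [Bool.not_true, Bool.or_false, Nat.beq_eq] at this
      rw [← ek, this]
    refine ⟨i545, ?_⟩
    rw [← e, b545]
    rcases hc with r | r | r
    · exfalso
      rw [r, K.P_smul i272 hc0] at e
      exact hne (s.injective (e.symm.trans g272.symm))
    · exfalso
      rw [r, K.P_smul i545 hc0] at e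
      exact hne ((index _ i545 (fun _ => Iff.rfl) e.symm).trans (index _ i272 p272 g272).symm)
    · rw [r, K.P_smul i817 hc0]
  intro v hv
  have := good_grow ChartData.allSteps _ (good_mark g545 hreal) (code v)
    (grow_all ⟨code v, code_lt v⟩ (by rw [vec_code]; exact hv))
  rw [vec_code] at this
  exact this.2

end Cfsg.Agent.Lib.FischerOuter90
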