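import Cfsg.Agent.Lib.FischerOuter90.Herm
import Cfsg.Agent.Lib.Symplectic.Order

/-!
Semilinear involutive isometries of a six-dimensional unitary space over four elements: up to
isometries of determinant one there are two.
-/

set_option autoImplicit false
set_option maxRecDepth 20000
set_option Elab.async false
set_option linter.unusedSectionVars false
set_option linter.style.haveILetI false

namespace Cfsg.Agent.Lib.FischerOuter90

open Cfsg.Agent.Lib.G24 (K4)
open Cfsg.Agent.Lib.FischerUniq91.Coord
open Cfsg.Agent.Lib.FischerUniq91.Trace (J_add_left J_smul_left)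
open Cfsg.Agent.Lib.Symplectic (IsSympForm Isom even_finrank exists_isometry exists_smul_eq_of_ne_zero)
open Module

/-- the vectors over two elements -/
abbrev U2 : Type := Fin 6 → ZMod 2

/-- the prime field inside -/
def emb : ZMod 2 →+* K4 where
  toFun x := if x = 0 then 0 else 1
  map_one' := by decide +kernel
  map_mul' := by decide +kernel
  map_zero' := by decide +kernel
  map_add' := by decide +kernel

/-- back -/
def dn (x : K4) : ZMod 2 := if x = 1 then 1 else 0

theorem emb_dn : ∀ x : K4, bar x = x → emb (dn x) = x := by decide +kernel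

theorem bar_emb : ∀ x : ZMod 2, bar (emb x) = emb x := by decide +kernel

theorem emb_inj : Function.Injective emb := emb.injective

/-- six real vectors -/
structure Real6 (f : V → V) (b : Fin 6 → V) : Prop where
  fix : ∀ i, f (b i) = b i
  li : LinearIndependent K4 b

/-- the linear map with given values at the units -/
noncomputable def ofB (b : Fin 6 → V) : Lin := (Pi.basisFun K4 (Fin 6)).constr K4 b

theorem ofB_unit (b : Fin 6 → V) (i : Fin 6) : ofB b (unit i) = b i := by
  rw [show unit i = Pi.basisFun K4 (Fin 6) i from funext fun k => by simp [unit, Pi.single_apply]]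
  exact Basis.constr_basis _ _ _ _

theorem eq_sum (v : V) : v = ∑ i, v i • unit i := by
  funext k; simp [unit, Finset.sum_apply]

theorem ofB_apply (b : Fin 6 → V) (v : V) : ofB b v = ∑ i, v i • b i := by
  conv_lhs => rw [eq_sum v]
  simp only [map_sum, map_smul, ofB_unit]

theorem J_sum_left {ι : Type*} (M : Fin 6 → V) (s : Finset ι) (f : ι → V) (x : V) :
    J M (∑ i ∈ s, f i) x = ∑ i ∈ s, J M (f i) x := by
  classical
  induction s using Finset.induction_on with
  | empty => simp [J, sum6_eq]
  | insert i s hi ih => rw [Finset.sum_insert hi, Finset.sum_insert hi, J_add_left, ih]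

theorem J_sum_right {ι : Type*} (M : Fin 6 → V) (s : Finset ι) (f : ι → V) (x : V) :
    J M x (∑ i ∈ s, f i) = ∑ i ∈ s, J M x (f i) := by
  classical
  induction s using Finset.induction_on with
  | empty => simp [J, sum6_eq]
  | insert i s hi ih => rw [Finset.sum_insert hi, Finset.sum_insert hi, J_add_right, ih]

/-- values at pairs of units determine the form -/
theorem J_lin (g : Lin) (g' : Lin) (h : ∀ i j, J M3 (g (unit i)) (g (unit j)) = J M3 (g' (unit i)) (g' (unit j)))
    (v w : V) : J M3 (g v) (g w) = J M3 (g' v) (g' w) := by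
  rw [eq_sum v, eq_sum w]
  simp only [map_sum, map_smul, J_sum_left, J_sum_right, J_smul_left, J_smul_right, h]

/-- conjugate map -/
def barL (g : Lin) : Lin where
  toFun v := barV (g (barV v))
  map_add' v w := by rw [barV_add, map_add, barV_add]
  map_smul' c v := by rw [barV_smul, map_smul, barV_smul, bar_bar, RingHom.id_apply]

theorem det_barL (g : Lin) : LinearMap.det (barL g) = bar (LinearMap.det g) := by
  rw [← LinearMap.det_toMatrix' (f := barL g), ← LinearMap.det_toMatrix' (f := g), RingHom.map_det]
  congr 1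
  ext i j
  simp only [LinearMap.toMatrix'_apply, RingHom.mapMatrix_apply, Matrix.map_apply]
  have e : barV (Pi.single j (1 : K4)) = Pi.single j 1 := by
    funext k; by_cases h : k = j <;> simp [barV, h]
  show bar (g (barV (Pi.single j 1)) i) = _
  rw [e]

/-- the fixed vectors span -/
theorem exists_real6 {f : V → V} (hadd : ∀ v w, f (v + w) = f v + f w)
    (hsm : ∀ (c : K4) v, f (c • v) = bar c • f v) (hinv : ∀ v, f (f v) = v) : ∃ b, Real6 f b := by
  set W : Set V := {v | f v = v}
  have hom : ∀ x : K4, bar x * x = if x = 0 then 0 else 1 := by decide +kernel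
  have hspan : Submodule.span K4 W = ⊤ := by
    refine eq_top_iff.2 fun v _ => ?_
    set o : K4 := K4.w
    have h1 : v + f v ∈ W := show f (v + f v) = _ by rw [hadd, hinv, add_comm]
    have h2 : o • v + f (o • v) ∈ W := show f (o • v + f (o • v)) = _ by rw [hadd, hinv, add_comm]
    have e : v = bar o • (v + f v) + (o • v + f (o • v)) := by
      rw [hsm, smul_add]
      have h3 : bar o + o = 1 := by decide +kernel
      calc v = (bar o + o) • v + (bar o + bar o) • f v := by rw [h3, one_smul, K4_add_self, zero_smul, add_zero]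
        _ = _ := by rw [add_smul, add_smul]; abel
    rw [e]
    exact Submodule.add_mem _ (Submodule.smul_mem _ _ (Submodule.subset_span h1)) (Submodule.subset_span h2)
  obtain ⟨s, hsW, hs, hli⟩ := exists_linearIndependent K4 W
  rw [hspan] at hs
  let bs : Basis s K4 V := Basis.mk hli (by rw [Subtype.range_coe, hs])
  let e : Fin 6 ≃ s := (Pi.basisFun K4 (Fin 6)).indexEquiv bs
  exact ⟨fun i => (e i).1, fun i => hsW (e i).2, hli.comp e e.injective⟩

section Form

variable {f : V → V} (hadd : ∀ v w, f (v + w) = f v + f w)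
  (hsm : ∀ (c : K4) v, f (c • v) = bar c • f v) (hJ : ∀ v w, J M3 (f v) (f w) = bar (J M3 v w))
  {b : Fin 6 → V} (hb : Real6 f b)

/-- a real combination -/
noncomputable def cb (b : Fin 6 → V) (x : U2) : V := ofB b fun i => emb (x i)

theorem cb_add (b : Fin 6 → V) (x y : U2) : cb b (x + y) = cb b x + cb b y := by
  rw [cb, cb, cb, ← map_add]
  congr 1
  funext i; exact map_add emb _ _

theorem cb_smul (b : Fin 6 → V) (c : ZMod 2) (x : U2) : cb b (c • x) = emb c • cb b x := by
  rw [cb, cb, ← map_smul]
  congr 1
  funext i; exact map_mul emb _ _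

include hadd in
theorem f_zero : f 0 = 0 := by
  have := hadd 0 0
  rw [add_zero] at this
  exact add_eq_left.1 this.symm

include hadd hsm hb in
theorem f_ofB (v : V) : f (ofB b v) = ofB b (barV v) := by
  have hsum : ∀ (s : Finset (Fin 6)) (g : Fin 6 → V), f (∑ i ∈ s, g i) = ∑ i ∈ s, f (g i) := by
    intro s g
    induction s using Finset.induction_on with
    | empty => simp [f_zero hadd]
    | insert i s hi ih => rw [Finset.sum_insert hi, Finset.sum_insert hi, hadd, ih]
  rw [ofB_apply, ofB_apply, hsum]
  exact Finset.sum_congr rfl fun i _ => by rw [hsm, hb.fix]; rfl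

include hadd hsm hb in
theorem f_cb (x : U2) : f (cb b x) = cb b x := by
  rw [cb, f_ofB hadd hsm hb]
  congr 1
  funext i; exact bar_emb _

include hadd hsm hJ hb in
theorem J_real (x y : U2) : emb (dn (J M3 (cb b x) (cb b y))) = J M3 (cb b x) (cb b y) :=
  emb_dn _ (by rw [← hJ, f_cb hadd hsm hb, f_cb hadd hsm hb])

/-- the form on real combinations -/
noncomputable def gram : U2 →ₗ[ZMod 2] U2 →ₗ[ZMod 2] ZMod 2 :=
  LinearMap.mk₂ (ZMod 2) (fun x y => dn (J M3 (cb b x) (cb b y)))
    (fun x x' y => emb_inj (by
      rw [map_add, J_real hadd hsm hJ hb, J_real hadd hsm hJ hb, J_real hadd hsm hJ hb, cb_add, J_add_left]))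
    (fun c x y => emb_inj (by
      rw [smul_eq_mul, map_mul, J_real hadd hsm hJ hb, J_real hadd hsm hJ hb, cb_smul, J_smul_left]))
    (fun x y y' => emb_inj (by
      rw [map_add, J_real hadd hsm hJ hb, J_real hadd hsm hJ hb, J_real hadd hsm hJ hb, cb_add, J_add_right]))
    (fun c x y => emb_inj (by
      rw [smul_eq_mul, map_mul, J_real hadd hsm hJ hb, J_real hadd hsm hJ hb, cb_smul, J_smul_right,
        bar_emb]))

theorem emb_gram (x y : U2) : emb (gram hadd hsm hJ hb x y) = J M3 (cb b x) (cb b y) :=
  J_real hadd hsm hJ hb x y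

theorem gram_symm (x y : U2) : gram hadd hsm hJ hb x y = gram hadd hsm hJ hb y x := by
  refine emb_inj ?_
  rw [emb_gram, emb_gram, J_conj (cb b y) (cb b x), ← emb_gram hadd hsm hJ hb y x, bar_emb]

include hb in
theorem ofB_inj : Function.Injective (ofB b) := by
  rw [← LinearMap.ker_eq_bot, LinearMap.ker_eq_bot']
  intro v hv
  rw [ofB_apply] at hv
  exact funext (Fintype.linearIndependent_iff.1 hb.li v hv)

theorem gram_nondeg (x : U2) (h : ∀ y, gram hadd hsm hJ hb x y = 0) : x = 0 := by
  have e : cb b x = 0 := nondeg fun k => by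
    obtain ⟨v, hv⟩ := (LinearMap.injective_iff_surjective.1 (ofB_inj hb)) (unit k)
    rw [← hv, ofB_apply, J_sum_right]
    refine Finset.sum_eq_zero fun i _ => ?_
    have hi : b i = cb b (Pi.single i 1) := by
      rw [cb, ofB_apply, Finset.sum_eq_single i]
      · simp
      · intro j _ hj; simp [hj]
      · simp
    rw [J_smul_right, hi, ← emb_gram hadd hsm hJ hb, h, map_zero, mul_zero]
  funext i
  exact emb_inj (congrFun (ofB_inj hb (e.trans (map_zero _).symm)) i |>.trans (map_zero emb).symm)

end Form

/-- an alternating form and a vector describe a symmetric form -/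
theorem exists_std (Γ : U2 →ₗ[ZMod 2] U2 →ₗ[ZMod 2] ZMod 2) (hs : ∀ x y, Γ x y = Γ y x)
    (hnd : ∀ x, (∀ y, Γ x y = 0) → x = 0) (B : U2 →ₗ[ZMod 2] U2 →ₗ[ZMod 2] ZMod 2) (hB : IsSympForm B) :
    ∃ e : U2 ≃ₗ[ZMod 2] U2,
      (∀ x y, Γ (e x) (e y) = B x y) ∨
      (∀ x y, Γ (e x) (e y) = B x y + B x (Pi.single 0 1) * B y (Pi.single 0 1)) := by
  have two : ∀ a : ZMod 2, a + a = 0 ∧ a * a = a := by decide
  let d : U2 →ₗ[ZMod 2] ZMod 2 :=
    { toFun := fun x => Γ x x
      map_add' := fun x y => by
        simp only [map_add, LinearMap.add_apply, hs y x]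
        linear_combination (two (Γ x y)).1
      map_smul' := fun c x => by
        simp only [map_smul, LinearMap.smul_apply, smul_eq_mul, RingHom.id_apply, ← mul_assoc, (two c).2] }
  have hd : ∀ x, d x = Γ x x := fun _ => rfl
  have hinj : Function.Injective Γ := fun x y e => sub_eq_zero.1 (hnd _ fun z => by
    rw [map_sub, LinearMap.sub_apply, e, sub_self])
  obtain ⟨u, hu⟩ := (LinearMap.injective_iff_surjective_of_finrank_eq_finrank
    Subspace.dual_finrank_eq.symm).1 hinj d
  have hu' : ∀ x, Γ x u = d x := fun x => by rw [hs, hu]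
  have h0 : d u = 0 := by
    by_contra hne
    have h1 : d u = 1 := (by decide : ∀ a : ZMod 2, a ≠ 0 → a = 1) _ hne
    have hS : IsSympForm (Γ.compl₁₂ (LinearMap.ker d).subtype (LinearMap.ker d).subtype) := by
      refine ⟨fun x => x.2, fun x hx => Subtype.ext (hnd _ fun y => ?_)⟩
      have hz : y + d y • u ∈ LinearMap.ker d := by
        rw [LinearMap.mem_ker, map_add, map_smul, h1, smul_eq_mul, mul_one, (two _).1]
      have e : Γ x.1 (y + d y • u) = 0 := hx ⟨_, hz⟩
      rw [map_add, map_smul, hu', show d x.1 = 0 from x.2, smul_zero, add_zero] at e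
      exact e
    have hr : LinearMap.range d = ⊤ := LinearMap.range_eq_top.2 fun c => ⟨c • u, by simp [h1]⟩
    have := LinearMap.finrank_range_add_finrank_ker d
    rw [hr, finrank_top, Module.finrank_self, finrank_fintype_fun_eq_card, Fintype.card_fin] at this
    obtain ⟨r, hr'⟩ := even_finrank hS
    omega
  let B' : U2 →ₗ[ZMod 2] U2 →ₗ[ZMod 2] ZMod 2 := Γ + d.smulRight d
  have hB'v : ∀ x y, B' x y = Γ x y + d x * d y := fun _ _ => rfl
  have hB' : IsSympForm B' := by
    refine ⟨fun x => by rw [hB'v, ← hd, (two _).2, (two _).1], fun x hx => ?_⟩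
    have e : x + d x • u = 0 := hnd _ fun y => by
      rw [map_add, map_smul, LinearMap.add_apply, LinearMap.smul_apply, hu, smul_eq_mul, ← hB'v, hx]
    have hdx : d x = 0 := by
      have := congrArg d e
      simpa [h0] using this
    simpa [hdx] using e
  have hB'u : ∀ x, B' x u = d x := fun x => by rw [hB'v, hu', h0, mul_zero, add_zero]
  have hΓ : ∀ x y, Γ x y = B' x y + B' x u * B' y u := fun x y => by
    rw [hB'u, hB'u, hB'v]
    linear_combination -(two (d x * d y)).1
  obtain ⟨e, he⟩ := exists_isometry hB hB' rfl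
  by_cases hu0 : u = 0
  · exact ⟨e, Or.inl fun x y => by rw [hΓ, he, hu0, map_zero, zero_mul, add_zero]⟩
  · obtain ⟨g, hg⟩ := exists_smul_eq_of_ne_zero hB (x := (Pi.single 0 1 : U2)) (y := e.symm u)
      (fun h => one_ne_zero (congrFun h 0 |>.symm.trans (by simp)).symm)
      (fun h => hu0 (by rw [← e.apply_symm_apply u, h, map_zero]))
    refine ⟨(g : U2 ≃ₗ[ZMod 2] U2).trans e, Or.inr fun x y => ?_⟩
    have eu : u = e ((g : U2 ≃ₗ[ZMod 2] U2) (Pi.single 0 1)) := by
      have hg' : (g : U2 ≃ₗ[ZMod 2] U2) (Pi.single 0 1) = e.symm u := hg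
      rw [hg', e.apply_symm_apply]
    rw [LinearEquiv.trans_apply, LinearEquiv.trans_apply, hΓ, he, eu, he, he, g.2, g.2, g.2]

theorem real6_unit : Real6 barV unit := by
  refine ⟨barV_unit, ?_⟩
  rw [Fintype.linearIndependent_iff]
  intro g hg i
  rw [← eq_sum g] at hg
  exact congrFun hg i

/-- the standard alternating form -/
noncomputable def form3 : U2 →ₗ[ZMod 2] U2 →ₗ[ZMod 2] ZMod 2 :=
  gram barV_add barV_smul J_barV real6_unit

theorem cb_unit (x : U2) : cb unit x = fun i => emb (x i) := by
  rw [cb, ofB_apply]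
  exact (eq_sum _).symm

theorem emb_form3 (x y : U2) : emb (form3 x y) = J M3 (fun i => emb (x i)) (fun i => emb (y i)) := by
  rw [form3, emb_gram, cb_unit, cb_unit]

theorem self3_ok : ∀ x : U2, J M3 (fun i => emb (x i)) (fun i => emb (x i)) = 0 := by decide +kernel

theorem isSymp_form3 : IsSympForm form3 :=
  ⟨fun x => emb_inj (by rw [emb_form3, self3_ok, map_zero]), gram_nondeg _ _ _ _⟩

/-- the shear taking units to a real basis of the second standard map -/
def kr : Lin where
  toFun v := v + (v 1 * K4.w) • unit 0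
  map_add' v w := by
    rw [Pi.add_apply, add_mul, add_smul]; abel
  map_smul' c v := by
    rw [Pi.smul_apply, smul_eq_mul, RingHom.id_apply, smul_add, smul_smul, mul_assoc]

theorem kr_kr (v : V) : kr (kr v) = v := by
  show v + (v 1 * K4.w) • unit 0 + ((v + (v 1 * K4.w) • unit 0) 1 * K4.w) • unit 0 = v
  have : (unit 0 : V) 1 = 0 := by decide +kernel
  simp only [Pi.add_apply, Pi.smul_apply, this, smul_zero, add_zero]
  rw [add_assoc, ← add_smul, K4_add_self, zero_smul, add_zero]

theorem kr_real : ∀ i, barV (tvI M3 (unit 0) (kr (unit i))) = kr (unit i) := by decide +kernel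

theorem kr_gram : ∀ i j : Fin 6, J M3 (kr (unit i)) (kr (unit j)) = J M3 (unit i) (unit j) +
    J M3 (unit i) (unit 0) * J M3 (unit j) (unit 0) := by
  decide +kernel

theorem emb_single (i : Fin 6) : (fun k => emb ((Pi.single i 1 : U2) k)) = unit i := by
  funext k; by_cases h : k = i <;> simp [unit, h]

/-- semilinear involutive isometries: two up to isometries of determinant one -/
theorem classify {h : Lin} (hh : IsU h) (hd : LinearMap.det h = 1) (hinv : ∀ v, barV (h (barV (h v))) = v) :
    ∃ k : Lin, IsU k ∧ LinearMap.det k = 1 ∧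
      ((∀ v, barV (h (k v)) = k (barV v)) ∨ ∀ v, barV (h (k v)) = k (barV (tvI M3 (unit 0) v))) := by
  let f : V → V := fun v => barV (h v)
  have hadd : ∀ v w, f (v + w) = f v + f w := fun v w => by simp only [f, map_add, barV_add]
  have hsm : ∀ (c : K4) v, f (c • v) = bar c • f v := fun c v => by simp only [f, map_smul, barV_smul]
  have hJ : ∀ v w, J M3 (f v) (f w) = bar (J M3 v w) := fun v w => by simp only [f, J_barV, hh v w]
  obtain ⟨b, hb⟩ := exists_real6 hadd hsm hinv
  obtain ⟨e, he⟩ := exists_std (gram hadd hsm hJ hb) (gram_symm hadd hsm hJ hb)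
    (gram_nondeg hadd hsm hJ hb) form3 isSymp_form3
  let k' : Lin := ofB fun i => cb b (e (Pi.single i 1))
  have hk' : ∀ v, f (k' v) = k' (barV v) := by
    intro v
    have hsum : ∀ (s : Finset (Fin 6)) (g : Fin 6 → V), f (∑ i ∈ s, g i) = ∑ i ∈ s, f (g i) := by
      intro s g
      induction s using Finset.induction_on with
      | empty => simp [f_zero hadd]
      | insert i s hi ih => rw [Finset.sum_insert hi, Finset.sum_insert hi, hadd, ih]
    rw [ofB_apply, ofB_apply, hsum]
    exact Finset.sum_congr rfl fun i _ => by rw [hsm, f_cb hadd hsm hb]; rfl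
  have det_one : ∀ (k : Lin), IsU k → ∀ hr : Lin, LinearMap.det hr = 1 →
      (∀ v, barV (h (k v)) = k (barV (hr v))) → LinearMap.det k = 1 := by
    intro k hk hr hdr hc
    have e1 : h ∘ₗ k = barL k ∘ₗ hr := LinearMap.ext fun v => by
      show h (k v) = barV (k (barV (hr v)))
      rw [← hc, barV_barV]
    have e2 := congrArg LinearMap.det e1
    rw [LinearMap.det_comp, LinearMap.det_comp, hd, hdr, det_barL, one_mul, mul_one] at e2
    rcases bar_eq_self _ e2.symm with h0 | h1
    · exact absurd h0 (LinearEquiv.isUnit_det' (LinearEquiv.ofBijective k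
        ⟨hk.inj, LinearMap.injective_iff_surjective.1 hk.inj⟩)).ne_zero
    · exact h1
  rcases he with he | he
  · have hk : IsU k' := fun v w => J_lin k' LinearMap.id (fun i j => by
      show J M3 (k' (unit i)) (k' (unit j)) = J M3 (unit i) (unit j)
      rw [ofB_unit, ofB_unit, ← emb_gram hadd hsm hJ hb, he, emb_form3, emb_single, emb_single]) v w
    exact ⟨k', hk, det_one k' hk LinearMap.id LinearMap.det_id hk', Or.inl hk'⟩
  · have hk : IsU (k' ∘ₗ kr) := fun v w => by
      have := J_lin k' kr (fun i j => by
        rw [ofB_unit, ofB_unit, ← emb_gram hadd hsm hJ hb, he, map_add, map_mul, emb_form3, emb_form3,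
          emb_form3, emb_single, emb_single, emb_single, kr_gram]) (kr v) (kr w)
      simpa only [kr_kr, LinearMap.comp_apply] using this
    have hc : ∀ v, barV (h ((k' ∘ₗ kr) v)) = (k' ∘ₗ kr) (barV (tvL (unit 0) v)) := by
      intro v
      show f (k' (kr v)) = k' (kr (barV (tvI M3 (unit 0) v)))
      rw [hk']
      congr 1
      have e1 : kr v = ∑ i, kr v i • unit i := eq_sum _
      have e2 : barV (tvI M3 (unit 0) v) = ∑ i, bar (kr v i) • kr (unit i) := by
        conv_lhs => rw [← kr_kr v, e1]
        simp only [map_sum, map_smul]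
        show barV (tvL (unit 0) (∑ i, kr v i • kr (unit i))) = _
        have hsum : ∀ (s : Finset (Fin 6)) (g : Fin 6 → V), barV (∑ i ∈ s, g i) = ∑ i ∈ s, barV (g i) := by
          intro s g
          induction s using Finset.induction_on with
          | empty => simp [f_zero barV_add]
          | insert i s hi ih => rw [Finset.sum_insert hi, Finset.sum_insert hi, barV_add, ih]
        rw [map_sum, hsum]
        refine Finset.sum_congr rfl fun i _ => ?_
        rw [map_smul, barV_smul]
        congr 1
        exact kr_real i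
      rw [e2]
      simp only [map_sum, map_smul, kr_kr]
      exact eq_sum _
    exact ⟨k' ∘ₗ kr, hk, det_one _ hk _ (det_tvL (by decide +kernel)) hc, Or.inr hc⟩

end Cfsg.Agent.Lib.FischerOuter90
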