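import Cfsg.Agent.Lib.FischerOuter90.Sigma
import Cfsg.Agent.Lib.FischerOuter90.Classify
import Cfsg.Agent.Lib.FischerOuter90.ChartData

/-!
Type M(22): checks for the coordinates at a fixed transposition.
-/

set_option autoImplicit false
set_option maxRecDepth 20000
set_option Elab.async false
set_option linter.unusedSectionVars false
set_option linter.style.haveILetI false
set_option maxHeartbeats 1000000

namespace Cfsg.Agent.Lib.FischerOuter90

open Cfsg.Agent.Lib.CosetEnum Cfsg.Agent.Lib.FischerExist27 Cfsg.Agent.Lib.FischerM23C90.Trace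
open Cfsg.Agent.Lib.FischerMTypes.Basic Cfsg.Agent.Lib.FischerMTypes.PointModel
open Cfsg.Agent.Lib.FischerMTypes.TraceCounts (Sys)
open Cfsg.Agent.Lib.G24 (K4)
open Cfsg.Agent.Lib.FischerUniq91.Coord

/-- the base point -/
def basePt : ℕ := 16

/-- six fixed neighbours forming a path -/
def pathPt (i : Fin 6) : ℕ := [17, 104, 22, 97, 270, 92].getD i.1 0

theorem pathPt_ok : ∀ i : Fin 6, pathPt i < 3510 ∧ pathPt i ≠ basePt := by decide +kernel

theorem path_fix : (Nat.beq (sig basePt) basePt && allBelow 6 fun i =>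
    Nat.beq (sig ([17, 104, 22, 97, 270, 92].getD i 0)) ([17, 104, 22, 97, 270, 92].getD i 0) &&
    Nat.beq (act basePt ([17, 104, 22, 97, 270, 92].getD i 0)) ([17, 104, 22, 97, 270, 92].getD i 0)) = true := by
  decide +kernel

theorem path_pattern : ∀ i j : Fin 6, (Nat.beq (act (pathPt i) (pathPt j)) (pathPt j) = true ↔
    ¬ (i.1 + 1 = j.1 ∨ j.1 + 1 = i.1)) := by
  decide +kernel

/-- the pattern of the point with code 545 -/
noncomputable def patB (k : ℕ) : Bool :=
  Nat.beq (act basePt k) k && allBelow 6 fun i =>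
    Bool.rec
      (Bool.rec true false (Nat.beq (act ([17, 104, 22, 97, 270, 92].getD i 0) k) k))
      (Nat.beq (act ([17, 104, 22, 97, 270, 92].getD i 0) k) k)
      ([true, false, true, true, true, false].getD i false)

theorem pat_fixed : (allBelow 3510 fun k =>
    Bool.rec true (Nat.beq k 176 || !(patB k)) (Nat.beq (sig k) k)) = true := by
  decide +kernel

theorem zeros_545 : ∀ i : Fin 6,
    (J M3 (vec 545) (unit i) = 0 ↔ [true, false, true, true, true, false].getD i.1 false = true) := by
  decide +kernel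

theorem pattern_three : ∀ n : Fin 4096, Coord.Iso M3 (vec n.1) →
    (∀ k, (J M3 (vec n.1) (unit k) = 0 ↔ J M3 (vec 545) (unit k) = 0)) →
    ∃ c : K4, vec n.1 = c • vec 272 ∨ vec n.1 = c • vec 545 ∨ vec n.1 = c • vec 817 := by
  decide +kernel

/-- a real point determined by its pattern -/
def PatOne (m : ℕ) : Prop :=
  Coord.Iso M3 (vec m) ∧ barV (vec m) = vec m ∧ ∀ n : Fin 4096, Coord.Iso M3 (vec n.1) →
    (∀ k, (J M3 (vec n.1) (unit k) = 0 ↔ J M3 (vec m) (unit k) = 0)) → ∃ c : K4, vec n.1 = c • vec m

theorem pat17 : PatOne 17 := by unfold PatOne; decide +kernel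

theorem pat1092 : PatOne 1092 := by unfold PatOne; decide +kernel

theorem pat1088 : PatOne 1088 := by unfold PatOne; decide +kernel

theorem pat273 : PatOne 273 := by unfold PatOne; decide +kernel

theorem pattern_one : ∀ m ∈ ([17, 1092, 1088, 273] : List ℕ), PatOne m := by
  intro m hm
  simp only [List.mem_cons, List.not_mem_nil, or_false] at hm
  rcases hm with rfl | rfl | rfl | rfl
  exacts [pat17, pat1092, pat1088, pat273]

theorem three_ok : Coord.Iso M3 (vec 272) ∧ Coord.Iso M3 (vec 545) ∧ Coord.Iso M3 (vec 817) ∧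
    barV (vec 272) = vec 272 ∧ barV (vec 545) = vec 817 ∧
    (∀ c : K4, vec 545 ≠ c • vec 272) ∧
    (∀ k, (J M3 (vec 272) (unit k) = 0 ↔ J M3 (vec 545) (unit k) = 0)) := by
  decide +kernel

/-- mark the multiples of a vector -/
def mark (v : V) (seen : ℕ) : ℕ :=
  seen ||| (1 <<< code (K4.e • v)) ||| (1 <<< code (K4.w • v)) ||| (1 <<< code (K4.v • v))

/-- closing under the steps -/
def grow : List (ℕ × ℕ) → ℕ → ℕ
  | [], seen => seen
  | p :: l, seen => grow l (if seen.testBit p.1 && seen.testBit p.2 then mark (tvI M3 (vec p.1) (vec p.2)) seen else seen)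

/-- the marked seeds for the real points -/
def seen0 : ℕ :=
  mark (unit 0) (mark (unit 1) (mark (unit 2) (mark (unit 3) (mark (unit 4) (mark (unit 5)
    (mark (vec 17) (mark (vec 1092) (mark (vec 1088) (mark (vec 273) 0)))))))))

theorem grow_real : (grow ChartData.realSteps seen0).testBit 272 = true := by decide +kernel

theorem grow_all : ∀ n : Fin 4096, Coord.Iso M3 (vec n.1) →
    (grow ChartData.allSteps (mark (vec 545) (grow ChartData.realSteps seen0))).testBit n.1 = true := by
  decide +kernel

end Cfsg.Agent.Lib.FischerOuter90
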