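import Cfsg.Agent.Lib.FischerOuter90.Sigma
import Mathlib.GroupTheory.Coxeter.Matrix

/-!
Type M(22): numbers of fixed points of the symmetry and of its products with a fixed pair, and
further checks on the fixed points.
-/

set_option autoImplicit false
set_option maxRecDepth 20000
set_option Elab.async false
set_option linter.unusedSectionVars false

namespace Cfsg.Agent.Lib.FischerOuter90

open Cfsg.Agent.Lib.CosetEnum Cfsg.Agent.Lib.FischerExist27 Cfsg.Agent.Lib.FischerM23C90.Trace

/-- the number of numbers below `n` with the property -/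
noncomputable def countTo (n : ℕ) (f : ℕ → Bool) : ℕ :=
  Nat.rec 0 (fun k ih => Bool.rec ih (ih + 1) (f k)) n

theorem countTo_eq (f : ℕ → Bool) : ∀ n, {k | k < n ∧ f k = true}.ncard = countTo n f := by
  intro n
  induction n with
  | zero => simp [countTo]
  | succ n ih =>
    have e : countTo (n + 1) f = Bool.rec (countTo n f) (countTo n f + 1) (f n) := rfl
    have hfin : {k | k < n ∧ f k = true}.Finite := (Set.finite_lt_nat n).subset fun k hk => hk.1
    rw [e]
    cases h : f n
    · rw [← ih]
      congr 1
      ext k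
      constructor
      · rintro ⟨hk, hf⟩
        exact ⟨lt_of_le_of_ne (Nat.lt_succ_iff.1 hk) (fun e => by rw [e, h] at hf; exact Bool.false_ne_true hf), hf⟩
      · rintro ⟨hk, hf⟩
        exact ⟨Nat.lt_succ_of_lt hk, hf⟩
    · show _ = countTo n f + 1
      rw [← ih, ← Set.ncard_insert_of_notMem (a := n) (fun h' => lt_irrefl n h'.1) hfin]
      congr 1
      ext k
      constructor
      · rintro ⟨hk, hf⟩
        rcases Nat.lt_succ_iff_lt_or_eq.1 hk with hk | hk
        exacts [Or.inr ⟨hk, hf⟩, Or.inl hk]
      · rintro (rfl | ⟨hk, hf⟩)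
        exacts [⟨Nat.lt_succ_self _, h⟩, ⟨Nat.lt_succ_of_lt hk, hf⟩]

/-- fixed by the symmetry -/
noncomputable def fixS (j : ℕ) : Bool := Nat.beq (sig j) j

/-- fixed by the product with the base transposition -/
noncomputable def fixA (j : ℕ) : Bool := Nat.beq (sig (act 16 j)) j

/-- fixed by the product with the base pair -/
noncomputable def fixAB (j : ℕ) : Bool := Nat.beq (sig (act 16 (act 17 j))) j

theorem count_s : countTo 3510 fixS = 360 := by decide +kernel

theorem count_a : countTo 3510 fixA = 64 := by decide +kernel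

theorem count_ab : countTo 3510 fixAB = 72 := by decide +kernel

/-- the fixed points of the second map other than the base point miss one of six -/
theorem special_a : (allBelow 3510 fun j => Bool.rec true
    (Nat.beq j 16 || !(([17, 19, 92, 97, 104, 165] : List ℕ).all fun i => Nat.beq (act i j) j)) (fixA j)) = true := by
  decide +kernel

theorem hit_a : (([17, 19, 92, 97, 104, 165] : List ℕ).all fun i =>
    Nat.blt i 3510 && fixA i && fixS i) = true := by
  decide +kernel

theorem link_ok : (fixS 27 && Nat.blt 27 3510 && !(Nat.beq (act 16 27) 27) && !(Nat.beq (act 27 17) 17)) = true := by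
  decide +kernel

/-- the six points of the pattern E6 and a seventh -/
def sixPt (i : Fin 6) : ℕ := [17, 19, 104, 1530, 92, 165].getD i.1 0

theorem eight_ok : fixS 167 = true ∧ fixS 2126 = true ∧ ¬ act 16 167 = 167 ∧ act 16 2126 = 2126 ∧
    (∀ i : Fin 6, sixPt i < 3510 ∧ fixS (sixPt i) = true ∧ sixPt i ≠ 16 ∧ sixPt i ≠ 167 ∧
      act 16 (sixPt i) = sixPt i ∧ act 167 (sixPt i) = sixPt i) ∧
    ∀ i : Fin 6, i.1 < 5 → act (sixPt i) 2126 = 2126 := by
  decide +kernel

theorem six_pattern : ∀ i j : Fin 6, (act (sixPt i) (sixPt j) = sixPt j ↔ ¬ CoxeterMatrix.E₆ i j = 3) := by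
  have h : ∀ i j : Fin 6, Nat.beq (act (sixPt i) (sixPt j)) (sixPt j) = !(decide (CoxeterMatrix.E₆ i j = 3)) := by
    decide +kernel
  intro i j
  rw [← Nat.beq_eq, h i j, Bool.not_eq_true', decide_eq_false_iff_not]

theorem moved_ok : (fixAB 6 && !(Nat.beq (act 16 6) 6) && !(Nat.beq (act 17 6) 6) &&
    !(Nat.beq (act 16 (act 17 6)) 6)) = true := by
  decide +kernel

end Cfsg.Agent.Lib.FischerOuter90
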