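import Cfsg.Agent.Lib.FischerOuter90.Auto
import Cfsg.Agent.Lib.FischerOuter90.Checks
import Cfsg.Agent.Lib.FischerMTypes.OmegaEight.Embedded
import Cfsg.Agent.Lib.Symplectic.Std

/-!
Type M(22): the fixed group of the symmetry of the diagram is the automorphism group of the
commutator subgroup of the orthogonal group of plus type in dimension eight over two elements; the
part centralising the base transposition is its product with the symplectic group in dimension six.
-/

set_option autoImplicit false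
set_option maxRecDepth 20000
set_option Elab.async false
set_option linter.unusedSectionVars false
set_option linter.style.haveILetI false

namespace Cfsg.Agent.Lib.FischerOuter90

open Cfsg.Agent.Lib.CosetEnum Cfsg.Agent.Lib.FischerExist27 Cfsg.Agent.Lib.FischerM23C90.Trace
open Cfsg.Agent.Lib.FischerMTypes Cfsg.Agent.Lib.FischerMTypes.Basic
  Cfsg.Agent.Lib.FischerMTypes.PointModel
open Cfsg.Agent.Lib.FischerMTypes.Primitive
open Cfsg.Agent.Lib.FischerMTypes.TraceCounts (Sys)
open Cfsg.Agent.Lib.FischerMTypes.OmegaEight (O8 Om Six Eight exists_vectors M8 sigma sigma_surjective wd sw8 sw8_notMem_Om)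
open Cfsg.Agent.Lib.FischerMTypes.OmegaEight.Eight (v6 pts gens)
open Cfsg.Agent.Lib.FischerAut6 (inn mul_inn_mul_inv rigid inn_injective mem_image_of_aut)
open Cfsg.Agent.Lib.G24 (K4)
open Cfsg.Agent.Lib.FischerUniq91.Coord
open Cfsg.Agent.Lib.FischerUniq91.Trace (J_smul_left)
open Cfsg.Agent.Lib.Symplectic (Isom isom_ext isom_smul_def)

variable {Q : Type*} [Group Q] [Finite Q] {E : Set Q} {π : ℕ → Q}
variable {F : Type} [Field F] [Fintype F]

/-- the fixed group of an automorphism -/
def fixSub (t : MulAut Q) : Subgroup Q where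
  carrier := {g | t g = g}
  one_mem' := map_one t
  mul_mem' {a b} ha hb := by
    show t (a * b) = a * b
    rw [map_mul, show t a = a from ha, show t b = b from hb]
  inv_mem' {a} ha := by
    show t a⁻¹ = a⁻¹
    rw [map_inv, show t a = a from ha]

theorem mem_fixSub {t : MulAut Q} {g : Q} : g ∈ fixSub t ↔ t g = g := Iff.rfl

/-- the real vector -/
def embV (x : U2) : V := fun i => emb (x i)

theorem embV_inj : Function.Injective embV := fun _ _ h => funext fun i => emb_inj (congrFun h i)

theorem barV_embV (x : U2) : barV (embV x) = embV x := funext fun _ => bar_emb _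

theorem iso_embV {x : U2} (hx : x ≠ 0) : Coord.Iso M3 (embV x) :=
  ⟨self3_ok x, fun h => hx (embV_inj (h.trans (funext fun _ => (map_zero emb).symm)))⟩

theorem embV_dn {v : V} (h : barV v = v) : embV (fun i => dn (v i)) = v :=
  funext fun i => emb_dn _ (congrFun h i)

theorem embV_add (x y : U2) : embV (x + y) = embV x + embV y := funext fun _ => map_add emb _ _

theorem embV_smul (c : ZMod 2) (x : U2) : embV (c • x) = emb c • embV x := funext fun _ => map_mul emb _ _

theorem embV_single (i : Fin 6) : embV (Pi.single i 1) = unit i := emb_single i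

theorem perm_six : ∀ p : Equiv.Perm (Fin 6), p * p = 1 → (∀ x, p x ≠ x) → Equiv.Perm.sign p = -1 := by
  decide +kernel

attribute [local irreducible] sig Cfsg.Agent.Lib.FischerM23C90.Trace.act fixS fixA fixAB

variable {M : Model E π} {S : Sys E F} {K : Coord (S.ctx (π basePt) (M.mem _ (by decide))) M3}
variable {s : MulAut Q} (H : Data M S K s)

namespace Data

include H in
theorem fixS_iff {j : ℕ} (hj : j < 3510) : s (π j) = π j ↔ fixS j = true := by
  rw [H.hs j hj, fixS, Nat.beq_eq]
  exact ⟨fun h => M.inj _ (sig_lt hj) j hj h, fun h => by rw [h]⟩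

include H in
/-- the number of fixed members of the class -/
theorem ncard_fixed : {x | x ∈ E ∧ s x = x}.ncard = 360 := by
  have e : {x | x ∈ E ∧ s x = x} = π '' {k | k < 3510 ∧ fixS k = true} := by
    ext x
    constructor
    · rintro ⟨hx, hf⟩
      obtain ⟨j, hj, rfl⟩ := M.surj x hx
      exact ⟨j, ⟨hj, (H.fixS_iff hj).1 hf⟩, rfl⟩
    · rintro ⟨j, ⟨hj, hf⟩, rfl⟩
      exact ⟨M.mem j hj, (H.fixS_iff hj).2 hf⟩
  rw [e, Set.ncard_image_of_injOn fun i hi j hj h => M.inj i hi.1 j hj.1 h, countTo_eq, count_s]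

include H in
/-- eight fixed transpositions with the pattern of E8, based at the base point -/
theorem exists_eight_fixed : ∃ (v : Fin 6 → Fin 6 → F)
    (Ei : Eight S (π basePt) (π 167) v (M.mem _ (by decide))), ∀ i, s (gens S (M.mem basePt (by decide)) v (π 167) i) =
      gens S (M.mem basePt (by decide)) v (π 167) i := by
  obtain ⟨h1, h2, h3, h4, h5, h6⟩ := eight_ok
  have hd : π basePt ∈ E := M.mem _ (by decide)
  have hsix : Six E (π basePt) (π 167) fun i => π (sixPt i) := by
    refine ⟨fun i => ?_, fun i j => ?_⟩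
    · obtain ⟨hl, -, n1, n2, c1, c2⟩ := h5 i
      exact ⟨⟨M.mem _ hl, fun e => n1 (M.inj _ hl _ (by decide) e), (M.comm_iff (by decide) hl).2 c1⟩,
        M.mem _ hl, fun e => n2 (M.inj _ hl _ (by decide) e), (M.comm_iff (by decide) hl).2 c2⟩
    · rw [M.comm_iff (h5 i).1 (h5 j).1]; exact six_pattern i j
  obtain ⟨v, hv1, hv2, hv3, hv4⟩ := exists_vectors (S.ctx _ hd) hsix
  have hdc : ¬ Commute (π basePt) (π 167) := fun h => h3 ((M.comm_iff (by decide) (by norm_num)).1 h)
  let Ei : Eight S (π basePt) (π 167) v hd :=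
    ⟨M.mem _ (by norm_num), hdc, hv1, hv2, fun i => hv3 i ▸ hsix.mem i, hv4⟩
  refine ⟨v, Ei, ?_⟩
  have hv6 : (S.ctx _ hd).pt (v6 v) = π 2126 := by
    set C := S.ctx _ hd
    have hy : π 2126 ∈ perp E (π basePt) :=
      ⟨M.mem _ (by norm_num), fun e => absurd (M.inj _ (by norm_num) _ (by decide) e) (by decide),
        (M.comm_iff (by decide) (by norm_num)).2 h4⟩
    obtain ⟨u, hu, hu0, he⟩ := C.exists_pt hy
    obtain ⟨p1, p2, p3⟩ := Ei.v6_spec
    set μ := Cfsg.hermForm 6 F 2 u (v 5)
    have hz : ∀ i : Fin 6, Cfsg.hermForm 6 F 2 (u + μ • v6 v) (v i) = 0 := by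
      intro i
      rw [Cfsg.Agent.Lib.Unitary.herm_add_left, Cfsg.Agent.Lib.Unitary.herm_smul_left, p3]
      by_cases hi : i = 5
      · subst hi
        rw [if_pos rfl, mul_one]
        exact UnitaryFour.Transvection.add_self_zero C.hF μ
      · rw [if_neg hi, mul_zero, add_zero]
        refine (C.pt_comm hu hu0 (hv1 i) (hv2 i)).1 ?_
        rw [he, hv3, Commute.symm_iff, M.comm_iff (h5 i).1 (by norm_num)]
        exact h6 i (by omega)
    have e0 := Ei.eq_zero_of_orth hz
    have eu : u = μ • v6 v := by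
      have h2' := UnitaryFour.Transvection.add_self_zero C.hF (μ • v6 v)
      calc u = u + (μ • v6 v + μ • v6 v) := by rw [h2', add_zero]
        _ = μ • v6 v := by rw [← add_assoc, e0, zero_add]
    rw [← he, eu, C.pt_smul p1 p2 fun h => hu0 (by rw [eu, h, zero_smul])]
  intro i
  refine Fin.lastCases ?_ (fun j => ?_) i
  · rw [gens, Fin.snoc_last]
    exact (H.fixS_iff (by norm_num)).2 h1
  · rw [gens, Fin.snoc_castSucc]
    refine Fin.lastCases ?_ (fun k => ?_) j
    · rw [pts, Fin.snoc_last, hv6]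
      exact (H.fixS_iff (by norm_num)).2 h2
    · rw [pts, Fin.snoc_castSucc, hv3]
      exact (H.fixS_iff (h5 k).1).2 (h5 k).2.1

/-- the part of the fixed group centralising the base point -/
abbrev stab (_H : Data M S K s) : Subgroup Q := fixSub s ⊓ Subgroup.centralizer ({π basePt} : Set Q)

include H in
theorem mem_stab {g : Q} : g ∈ H.stab ↔ s g = g ∧ g * π basePt * g⁻¹ = π basePt := by
  rw [Subgroup.mem_inf, mem_fixSub, Subgroup.mem_centralizer_singleton_iff, mul_inv_eq_iff_eq_mul]

include H in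
theorem stab_rel {g : Q} (hg : g ∈ H.stab) :
    ∃ T : Isom form3, ∀ x, x ≠ 0 → g * K.P (embV x) * g⁻¹ = K.P (embV (T • x)) := by
  obtain ⟨hsg, hga⟩ := H.mem_stab.1 hg
  have hmem : g ∈ Subgroup.closure (perp E (π basePt)) := by
    rw [StabilizerM22.centralizer_eq S (M.mem _ (by decide))]; exact (Subgroup.mem_inf.1 hg).2
  obtain ⟨h, hh, -, hact⟩ := lin_of_mem K hmem
  have hfix : ∀ i, K.P (barV (h (unit i))) = K.P (h (unit i)) := fun i => by
    rw [← H.sP (hh.iso (unit_iso' i)), ← hact _ (unit_iso' i), map_mul, map_mul, map_inv, hsg, H.sP (unit_iso' i),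
      barV_unit]
  have hc : ∀ i, ∃ c : K4, c ≠ 0 ∧ barV (h (unit i)) = c • h (unit i) := fun i => by
    obtain ⟨c, hc, e⟩ := (K.P_eq (hh.iso (unit_iso' i)) (iso_barV (hh.iso (unit_iso' i)))).1 (hfix i).symm
    exact ⟨c, hc, e⟩
  choose c hc he using hc
  have step : ∀ i j : Fin 6, i.1 + 1 = j.1 → c i = c j := fun i j hij => by
    have e := J_barV (h (unit i)) (h (unit j))
    rw [he, he, J_smul_left, J_smul_right, hh, adj_ok i j hij, mul_one, map_one] at e
    have e2 := K4_norm _ (hc j)
    calc c i = c i * (c j * bar (c j)) := by rw [e2, mul_one]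
      _ = c j * (c i * bar (c j)) := by ring
      _ = c j := by rw [e, mul_one]
  have hall : ∀ i, c i = c 0 := by
    have s1 := step 0 1 rfl; have s2 := step 1 2 rfl; have s3 := step 2 3 rfl
    have s4 := step 3 4 rfl; have s5 := step 4 5 rfl
    intro i; fin_cases i
    exacts [rfl, s1.symm, (s1.trans s2).symm, ((s1.trans s2).trans s3).symm,
      (((s1.trans s2).trans s3).trans s4).symm, ((((s1.trans s2).trans s3).trans s4).trans s5).symm]
  set μ := bar (c 0) with hμ
  have hμ0 : μ ≠ 0 := fun e => hc 0 (by rw [← bar_bar (c 0), ← hμ, e, map_zero])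
  have hμ1 : bar μ * c 0 = μ := by
    rw [hμ, bar_bar]
    exact (bar_def _).symm
  let h' : Lin := μ • h
  have hh' : IsU h' := fun v w => by
    show J M3 (μ • h v) (μ • h w) = _
    rw [J_smul_left, J_smul_right, hh, ← mul_assoc, K4_norm _ hμ0, one_mul]
  have hreal : barL h' = h' := by
    refine (Pi.basisFun K4 (Fin 6)).ext fun i => ?_
    rw [show Pi.basisFun K4 (Fin 6) i = unit i from funext fun k => by simp [unit, Pi.single_apply]]
    show barV (μ • h (barV (unit i))) = μ • h (unit i)
    rw [barV_unit, barV_smul, he, hall, smul_smul, hμ1]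
  have hr : ∀ x, barV (h' (embV x)) = h' (embV x) := fun x => by
    conv_rhs => rw [← hreal]
    show _ = barV (h' (barV (embV x)))
    rw [barV_embV]
  let T0 : U2 →ₗ[ZMod 2] U2 :=
    { toFun := fun x i => dn (h' (embV x) i)
      map_add' := fun x y => embV_inj (by
        rw [embV_dn (hr _), embV_add, embV_add, embV_dn (hr _), embV_dn (hr _), map_add])
      map_smul' := fun a x => embV_inj (by
        rw [RingHom.id_apply, embV_dn (hr _), embV_smul, embV_smul, embV_dn (hr _), map_smul]) }
  have hT : ∀ x, embV (T0 x) = h' (embV x) := fun x => embV_dn (hr x)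
  have hinj : Function.Injective T0 := fun x y e => embV_inj (hh'.inj (by rw [← hT, ← hT, e]))
  refine ⟨⟨LinearEquiv.ofBijective T0 ⟨hinj, LinearMap.injective_iff_surjective.1 hinj⟩, fun x y => emb_inj ?_⟩,
    fun x hx => ?_⟩
  · rw [emb_form3, emb_form3]
    show J M3 (embV (T0 x)) (embV (T0 y)) = J M3 (embV x) (embV y)
    rw [hT, hT, hh']
  · rw [hact _ (iso_embV hx), isom_smul_def]
    show _ = K.P (embV (T0 x))
    rw [hT]
    exact (K.P_smul (hh.iso (iso_embV hx)) hμ0).symm

include H in
theorem P_embV_inj {x y : U2} (hx : x ≠ 0) (hy : y ≠ 0) (h : K.P (embV x) = K.P (embV y)) : x = y := by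
  obtain ⟨c, hc, e⟩ := (K.P_eq (iso_embV hx) (iso_embV hy)).1 h
  obtain ⟨i, hi⟩ : ∃ i, x i ≠ 0 := Function.ne_iff.1 hx
  have hi1 : emb (x i) = 1 := by rw [(by decide : ∀ a : ZMod 2, a ≠ 0 → a = 1) _ hi, map_one]
  have hci : emb (y i) = c := (congrFun e i).trans (by show c * emb (x i) = c; rw [hi1, mul_one])
  have hc1 : c = 1 := by
    rcases (by decide : ∀ a : ZMod 2, a = 0 ∨ a = 1) (y i) with h0 | h0 <;> rw [h0] at hci
    · exact absurd (hci.symm.trans (map_zero emb)) hc
    · exact hci.symm.trans (map_one emb)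
  rw [hc1, one_smul] at e
  exact (embV_inj e).symm

/-- the isometry of the real vectors -/
noncomputable def realHom : ↥H.stab →* Isom form3 := by
  refine MonoidHom.mk' (fun g => (H.stab_rel g.2).choose) fun g g' => ?_
  refine isom_ext fun x => ?_
  by_cases hx : x = 0
  · subst hx; rw [isom_smul_def, isom_smul_def, map_zero, map_zero]
  have h1 := (H.stab_rel (g * g').2).choose_spec x hx
  have h2 := (H.stab_rel g'.2).choose_spec x hx
  have hx' := Symplectic.isom_smul_ne_zero (H.stab_rel g'.2).choose hx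
  have h3 := (H.stab_rel g.2).choose_spec _ hx'
  rw [← h2, show (g : Q) * ((g' : Q) * K.P (embV x) * (g' : Q)⁻¹) * (g : Q)⁻¹ =
    ((g * g' : H.stab) : Q) * K.P (embV x) * ((g * g' : H.stab) : Q)⁻¹ by rw [Subgroup.coe_mul]; group, h1] at h3
  rw [mul_smul]
  exact H.P_embV_inj (Symplectic.isom_smul_ne_zero _ hx) (Symplectic.isom_smul_ne_zero _ hx') h3

theorem realHom_spec (g : ↥H.stab) (x : U2) (hx : x ≠ 0) :
    (g : Q) * K.P (embV x) * (g : Q)⁻¹ = K.P (embV (H.realHom g • x)) :=
  (H.stab_rel g.2).choose_spec x hx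

theorem realHom_ker {g : ↥H.stab} (hg : H.realHom g = 1) : (g : Q) = 1 ∨ (g : Q) = π basePt := by
  have hmem : (g : Q) ∈ Subgroup.closure (perp E (π basePt)) := by
    rw [StabilizerM22.centralizer_eq S (M.mem _ (by decide))]; exact (Subgroup.mem_inf.1 g.2).2
  obtain ⟨h, hh, -, hact⟩ := lin_of_mem K hmem
  obtain ⟨c, hc, e⟩ := H.scalar hh fun i => by
    have := H.realHom_spec g (Pi.single i 1) (fun h => one_ne_zero ((Pi.single_eq_same i 1).symm.trans (congrFun h i)))
    rw [hg, one_smul, embV_single, hact _ (unit_iso' i)] at this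
    exact this
  rcases rigid S (φ := inn Q (g : Q)) (M.mem _ (by decide : basePt < 3510))
    (by rw [MulAut.conj_apply]; exact (H.mem_stab.1 g.2).2)
    (fun y hy => by
      obtain ⟨v, hv, rfl⟩ := K.exists_P hy
      rw [MulAut.conj_apply, hact v hv, e, K.P_smul hv hc]) with h' | h'
  · exact Or.inl (inn_injective S.hZ (h'.trans (map_one _).symm))
  · exact Or.inr (inn_injective S.hZ h')

theorem center_psp : Subgroup.center (Matrix.symplecticGroup (Fin 3) (ZMod 2)) = ⊥ :=
  Subgroup.card_eq_one.1 (Symplectic.card_center_sp (q := 2) (Nat.card_zmod 2) (by norm_num))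

/-- the symplectic group as an isometry group -/
theorem nonempty_isom_psp : Nonempty (Isom form3 ≃* Cfsg.PSp 3 (ZMod 2)) := by
  obtain ⟨e⟩ := Symplectic.nonempty_isom_mulEquiv_sp (m := 3) isSymp_form3 (by simp)
  exact ⟨e.trans ((QuotientGroup.quotientMulEquivOfEq center_psp).trans QuotientGroup.quotientBot).symm⟩

theorem card_psp3 : Nat.card (Cfsg.PSp 3 (ZMod 2)) = 1451520 := by
  have h := Symplectic.card_psp (F := ZMod 2) (q := 2) (Nat.card_zmod 2) (m := 3) (by norm_num)
  rw [show Nat.gcd 2 (2 - 1) = 1 from rfl, one_mul] at h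
  rw [h]
  decide +kernel

include H in
theorem card_stab_le : Nat.card H.stab ≤ 2 * 1451520 := by
  obtain ⟨e⟩ := nonempty_isom_psp
  have h := Subgroup.card_eq_card_quotient_mul_card_subgroup H.realHom.ker
  have h1 : Nat.card (↥H.stab ⧸ H.realHom.ker) ≤ 1451520 := by
    rw [← card_psp3, ← Nat.card_congr e.toEquiv]
    haveI : Finite (Isom form3) := Finite.of_injective (fun g => (g : U2 ≃ₗ[ZMod 2] U2).toLinearMap.toFun)
      fun g g' hgg => Subtype.ext (LinearEquiv.ext fun x => congrFun hgg x)
    rw [Nat.card_congr (QuotientGroup.quotientKerEquivRange H.realHom).toEquiv]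
    exact Nat.card_le_card_of_injective _ Subtype.val_injective
  have h2 : Nat.card H.realHom.ker ≤ 2 := by
    classical
    refine (Nat.card_le_card_of_injective (β := Bool) (fun k : ↥H.realHom.ker => decide (((k : ↥H.stab) : Q) = 1))
      fun k k' hkk => ?_).trans (le_of_eq (Nat.card_eq_fintype_card.trans Fintype.card_bool))
    have hh : (((k : ↥H.stab) : Q) = 1) ↔ (((k' : ↥H.stab) : Q) = 1) := by simpa using hkk
    refine Subtype.ext (Subtype.ext ?_)
    rcases H.realHom_ker k.2 with e | e <;> rcases H.realHom_ker k'.2 with e' | e'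
    · rw [e, e']
    · rw [e, hh.1 e]
    · rw [hh.2 e', e']
    · rw [e, e']
  rw [h]
  exact (Nat.mul_le_mul h1 h2).trans (by norm_num)

include H in
/-- the fixed group and its part at the base point -/
theorem fixed_groups : Nonempty (↥(fixSub s) ≃* MulAut (Cfsg.Omega (ZMod 2) (Cfsg.quadFormPlus 4 (ZMod 2)))) ∧
    Nonempty (↥H.stab ≃* Multiplicative (ZMod 2) × Cfsg.PSp 3 (ZMod 2)) := by
  obtain ⟨v, Ei, hfix⟩ := H.exists_eight_fixed
  -- the range of the embedding is fixed
  have hrange : ∀ z, s (Ei.theta z) = Ei.theta z := by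
    intro z
    obtain ⟨w, rfl⟩ := sigma_surjective z
    rw [Ei.theta_sigma]
    induction w using M8.toCoxeterSystem.simple_induction_left with
    | one => rw [map_one, map_one]
    | mul_simple_left w i ih =>
      rw [map_mul, map_mul, CoxeterMatrix.toCoxeterSystem_simple, Ei.rho_simple, hfix, ih]
  have hsimple : Ei.simpleSub ≤ fixSub s := by
    rintro _ ⟨z, -, rfl⟩
    exact hrange z
  have hbig : Ei.bigSub ≤ fixSub s := by
    refine sup_le hsimple fun x hx => ?_
    have hn := Ei.normalizer_le hx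
    have key : x⁻¹ * s x = 1 := by
      refine Ei.cent_simpleSub fun y hy => ?_
      have h1 : x * y * x⁻¹ ∈ Ei.simpleSub := (Subgroup.mem_normalizer_iff.1 hn y).1 hy
      have h2 : s (x * y * x⁻¹) = x * y * x⁻¹ := hsimple h1
      rw [map_mul, map_mul, map_inv, show s y = y from hsimple hy] at h2
      calc x⁻¹ * s x * y = x⁻¹ * (s x * y * (s x)⁻¹) * s x := by group
        _ = y * (x⁻¹ * s x) := by rw [h2]; group
    exact (eq_of_inv_mul_eq_one key).symm
  obtain ⟨-, hcard, ⟨eO⟩⟩ := Ei.bigSub_spec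
  -- counting
  let T := H.stab.subgroupOf (fixSub s)
  have hconjmem : ∀ x : ↥(fixSub s), (x : Q) * π basePt * (x : Q)⁻¹ ∈ {y | y ∈ E ∧ s y = y} := fun x =>
    ⟨S.hD.2.1 _ _ (M.mem _ (by decide)), by rw [map_mul, map_mul, map_inv, show s x = x from x.2, H.fix_a]⟩
  have hidx : T.index ≤ 360 := by
    rw [← H.ncard_fixed, ← Nat.card_coe_set_eq, Subgroup.index]
    refine Nat.card_le_card_of_injective
      (fun q => Quotient.liftOn q (fun x => (⟨_, hconjmem x⟩ : {y : Q // y ∈ E ∧ s y = y})) ?_) ?_
    · intro x x' hxx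
      replace hxx : x⁻¹ * x' ∈ T := QuotientGroup.leftRel_apply.1 hxx
      refine Subtype.ext ?_
      have h := (H.mem_stab.1 (Subgroup.mem_subgroupOf.1 hxx)).2
      simp only [Subgroup.coe_mul, Subgroup.coe_inv] at h
      calc (x : Q) * π basePt * (x : Q)⁻¹
          = x * (((x : Q)⁻¹ * x') * π basePt * ((x : Q)⁻¹ * x')⁻¹) * (x : Q)⁻¹ := by rw [h]
        _ = x' * π basePt * (x' : Q)⁻¹ := by group
    · intro q q'
      induction q using Quotient.inductionOn with
      | h x =>
        induction q' using Quotient.inductionOn with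
        | h x' =>
          intro e
          refine Quotient.sound ?_
          show (QuotientGroup.leftRel T) x x'
          rw [QuotientGroup.leftRel_apply]
          refine Subgroup.mem_subgroupOf.2 (H.mem_stab.2 ⟨(x⁻¹ * x').2, ?_⟩)
          have e' : (x : Q) * π basePt * (x : Q)⁻¹ = x' * π basePt * (x' : Q)⁻¹ := congrArg Subtype.val e
          simp only [Subgroup.coe_mul, Subgroup.coe_inv]
          calc ((x : Q)⁻¹ * x') * π basePt * ((x : Q)⁻¹ * x')⁻¹
              = (x : Q)⁻¹ * (x' * π basePt * (x' : Q)⁻¹) * x := by group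
            _ = π basePt := by rw [← e']; group
  have hTcard : Nat.card T = Nat.card H.stab :=
    Nat.card_congr (Subgroup.subgroupOfEquivOfLe inf_le_left).toEquiv
  have hle : Nat.card (fixSub s) ≤ 360 * Nat.card H.stab := by
    rw [← Subgroup.index_mul_card T, hTcard]
    exact Nat.mul_le_mul_right _ hidx
  have hge : 6 * 174182400 ≤ Nat.card (fixSub s) := hcard ▸ Subgroup.card_le_of_le hbig
  have hstab : Nat.card H.stab = 2 * 1451520 := by
    have := H.card_stab_le
    omega
  have heq : Ei.bigSub = fixSub s := Subgroup.eq_of_le_of_card_ge hbig (by omega)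
  refine ⟨⟨(MulEquiv.subgroupCongr heq.symm).trans eO⟩, ?_⟩
  have hcardS : Nat.card (fixSub s) = 6 * 174182400 := heq ▸ hcard
  -- the parity
  have hKB : Ei.simpleSub ≤ Ei.bigSub := le_sup_left
  let N := Ei.simpleSub.subgroupOf (fixSub s)
  have hNidx : Nat.card (↥(fixSub s) ⧸ N) = 6 := by
    have h := Subgroup.card_eq_card_quotient_mul_card_subgroup N
    rw [Nat.card_congr (Subgroup.subgroupOfEquivOfLe hsimple).toEquiv, Ei.card_simpleSub, hcardS] at h
    omega
  haveI hN : N.Normal := ⟨fun x hx g => by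
    rw [Subgroup.mem_subgroupOf] at hx ⊢
    exact (Subgroup.mem_normalizer_iff.1 (Ei.bigSub_le_normalizer (show (g : Q) ∈ Ei.bigSub by rw [heq]; exact g.2)) x).1 hx⟩
  haveI : Fintype (↥(fixSub s) ⧸ N) := Fintype.ofFinite _
  classical
  let χ : ↥(fixSub s) →* ℤˣ :=
    Equiv.Perm.sign.comp (MulAction.toPermHom ↥(fixSub s) (↥(fixSub s) ⧸ N))
  let a' : ↥(fixSub s) := ⟨π basePt, H.fix_a⟩
  have ha2 : a' * a' = 1 := Subtype.ext (M.sq _ (by decide))
  have haN : a' ∉ N := by
    intro h
    rw [Subgroup.mem_subgroupOf] at h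
    have hd : Ei.theta (sw8 OmegaEight.Data.rw) = π basePt := by rw [Ei.theta_sw8, Ei.rho_rw]
    change π basePt ∈ Ei.simpleSub at h
    exact sw8_notMem_Om Eight.rw_words.1 (by decide) (Ei.simpleSub_mem.1 (by rw [hd]; exact h))
  have hsign : χ a' = -1 := by
    let ee := (Fintype.equivFinOfCardEq (α := ↥(fixSub s) ⧸ N) (n := 6) (by rw [← Nat.card_eq_fintype_card, hNidx]))
    set p := MulAction.toPermHom ↥(fixSub s) (↥(fixSub s) ⧸ N) a'
    have hp : p * p = 1 := by rw [← map_mul, ha2, map_one]
    have hfree : ∀ q, p q ≠ q := by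
      intro q
      induction q using Quotient.inductionOn with
      | h x =>
        intro e
        refine haN ?_
        have e' : QuotientGroup.mk (a' * x) = (QuotientGroup.mk x : ↥(fixSub s) ⧸ N) := e
        rw [QuotientGroup.eq] at e'
        have := hN.conj_mem _ e' x
        rw [show x * ((a' * x)⁻¹ * x) * x⁻¹ = a'⁻¹ by group, inv_mem_iff] at this
        exact this
    have h := perm_six (ee.permCongr p) (by
      ext i; simp only [Equiv.Perm.mul_apply, Equiv.permCongr_apply, Equiv.symm_apply_apply]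
      rw [← Equiv.Perm.mul_apply, hp]; simp) (fun i e => hfree (ee.symm i) (by
        simpa [Equiv.permCongr_apply, Equiv.apply_eq_iff_eq_symm_apply] using e))
    rwa [Equiv.Perm.sign_permCongr] at h
  obtain ⟨eP⟩ := nonempty_isom_psp
  let e2 : ℤˣ ≃* Multiplicative (ZMod 2) :=
    mulEquivOfPrimeCardEq (p := 2) (by rw [Nat.card_eq_fintype_card, Fintype.card_units_int])
      (by rw [Nat.card_congr Multiplicative.toAdd, Nat.card_zmod])
  let Φ : ↥H.stab →* Multiplicative (ZMod 2) × Cfsg.PSp 3 (ZMod 2) :=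
    (e2.toMonoidHom.comp (χ.comp (Subgroup.inclusion inf_le_left))).prod (eP.toMonoidHom.comp H.realHom)
  have hΦ : Function.Injective Φ := by
    rw [injective_iff_map_eq_one]
    intro g hg
    obtain ⟨h1, h2⟩ : e2 (χ (Subgroup.inclusion inf_le_left g)) = 1 ∧ eP (H.realHom g) = 1 := Prod.ext_iff.1 hg
    rw [MulEquiv.map_eq_one_iff] at h1 h2
    rcases H.realHom_ker h2 with e | e
    · exact Subtype.ext e
    · rw [show Subgroup.inclusion inf_le_left g = a' from Subtype.ext e, hsign] at h1
      exact absurd h1 (by decide)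
  haveI : Finite (Multiplicative (ZMod 2) × Cfsg.PSp 3 (ZMod 2)) := Nat.finite_of_card_ne_zero (by
    rw [Nat.card_prod, card_psp3, Nat.card_congr Multiplicative.toAdd, Nat.card_zmod]; norm_num)
  exact ⟨MulEquiv.ofBijective Φ ((Nat.bijective_iff_injective_and_card Φ).2 ⟨hΦ, by
    rw [hstab, Nat.card_prod, card_psp3, Nat.card_congr Multiplicative.toAdd, Nat.card_zmod]⟩)⟩

end Data

end Cfsg.Agent.Lib.FischerOuter90
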