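import Cfsg.Agent.Lib.FischerUniq91.Trace
import Cfsg.Agent.Lib.FischerMTypes.StabilizerM22

/-!
Type M(22): isometries of the coordinates at a transposition and the conjugations realising them.
-/

set_option autoImplicit false
set_option maxRecDepth 20000
set_option Elab.async false
set_option linter.unusedSectionVars false
set_option linter.style.haveILetI false

namespace Cfsg.Agent.Lib.FischerOuter90

open Cfsg.Agent.Lib.FischerMTypes.Basic Cfsg.Agent.Lib.FischerMTypes.Primitive
  Cfsg.Agent.Lib.FischerMTypes.PointModel Cfsg.Agent.Lib.FischerMTypes.TraceCounts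
open Cfsg.Agent.Lib.G24 (K4)
open Cfsg.Agent.Lib.FischerUniq91.Coord
open Cfsg.Agent.Lib.FischerUniq91.Trace (J_add_left J_smul_left)
open Cfsg.Agent.Lib.UnitaryFour.Transvection (act act_def)
open scoped Matrix

/-- conjugation of the field -/
def bar : K4 →+* K4 where
  toFun x := x * x
  map_one' := by decide +kernel
  map_mul' := by decide +kernel
  map_zero' := by decide +kernel
  map_add' := by decide +kernel

theorem bar_def (x : K4) : bar x = x * x := rfl

theorem bar_bar : ∀ x : K4, bar (bar x) = x := by decide +kernel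

theorem bar_eq_self : ∀ x : K4, bar x = x → x = 0 ∨ x = 1 := by decide +kernel

theorem eq_one_of_sq : ∀ x : K4, x * x = 1 → x = 1 := by decide +kernel

/-- conjugation of the coordinates -/
def barV (v : V) : V := fun k => bar (v k)

theorem barV_barV (v : V) : barV (barV v) = v := funext fun _ => bar_bar _

theorem barV_add (v w : V) : barV (v + w) = barV v + barV w := funext fun _ => map_add bar _ _

theorem barV_smul (c : K4) (v : V) : barV (c • v) = bar c • barV v := funext fun _ => map_mul bar _ _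

theorem barV_unit (i : Fin 6) : barV (unit i) = unit i := by
  funext k; by_cases h : k = i <;> simp [barV, unit, h]

theorem M3_bar : ∀ i j, bar (M3 i j) = M3 i j ∧ M3 i j = M3 j i := by decide +kernel

theorem J_add_right (M : Fin 6 → V) (v w x : V) : J M v (w + x) = J M v w + J M v x := by
  simp only [J, sum6_eq, ← Finset.sum_add_distrib, ← mul_add]
  refine Finset.sum_congr rfl fun i _ => ?_
  congr 1
  refine Finset.sum_congr rfl fun j _ => ?_
  congr 1
  show (w j + x j) * (w j + x j) = bar (w j) + bar (x j)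
  rw [← map_add, bar_def]

theorem J_smul_right (M : Fin 6 → V) (c : K4) (v w : V) : J M v (c • w) = bar c * J M v w := by
  simp only [J, sum6_eq, Finset.mul_sum]
  refine Finset.sum_congr rfl fun i _ => Finset.sum_congr rfl fun j _ => ?_
  simp only [bar_def, Pi.smul_apply, smul_eq_mul]
  ring

theorem J_conj (v w : V) : J M3 w v = bar (J M3 v w) := by
  simp only [J, sum6_eq, map_sum, map_mul, Finset.mul_sum]
  rw [Finset.sum_comm]
  refine Finset.sum_congr rfl fun i _ => Finset.sum_congr rfl fun j _ => ?_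
  simp only [← bar_def, bar_bar, (M3_bar i j).1, (M3_bar j i).2]
  ring

theorem J_barV (v w : V) : J M3 (barV v) (barV w) = bar (J M3 v w) := by
  simp only [J, sum6_eq, map_sum, map_mul, Finset.mul_sum]
  refine Finset.sum_congr rfl fun i _ => Finset.sum_congr rfl fun j _ => ?_
  simp only [← bar_def, (M3_bar i j).1, barV, bar_bar]

theorem vec_nondeg : ∀ n : Fin 4096, (∀ k, J M3 (vec n.1) (unit k) = 0) → vec n.1 = 0 := by
  decide +kernel

theorem nondeg {v : V} (h : ∀ k, J M3 v (unit k) = 0) : v = 0 := by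
  have := vec_nondeg ⟨code v, code_lt v⟩
  rw [vec_code] at this
  exact this h

theorem ext_J {v w : V} (h : ∀ k, J M3 v (unit k) = J M3 w (unit k)) : v = w := by
  refine sub_eq_zero.1 (nondeg fun k => ?_)
  have e : J M3 (v - w) (unit k) + J M3 w (unit k) = J M3 v (unit k) := by
    rw [← J_add_left, sub_add_cancel]
  rw [h k] at e
  simpa using e

/-- linear maps of the coordinates -/
abbrev Lin : Type := V →ₗ[K4] V

/-- isometries -/
def IsU (h : Lin) : Prop := ∀ v w, J M3 (h v) (h w) = J M3 v w

theorem isU_id : IsU LinearMap.id := fun _ _ => rfl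

theorem IsU.comp {g h : Lin} (hg : IsU g) (hh : IsU h) : IsU (g ∘ₗ h) := fun v w => (hg _ _).trans (hh v w)

theorem IsU.inj {h : Lin} (hh : IsU h) : Function.Injective h := fun v w e => ext_J fun k => by
  rw [← hh v, e, hh w]

theorem IsU.iso {h : Lin} (hh : IsU h) {v : V} (hv : Coord.Iso M3 v) : Coord.Iso M3 (h v) :=
  ⟨(hh v v).trans hv.1, fun e => hv.2 (hh.inj (e.trans (map_zero h).symm))⟩

theorem iso_barV {v : V} (hv : Coord.Iso M3 v) : Coord.Iso M3 (barV v) :=
  ⟨by rw [J_barV, hv.1, map_zero], fun e => hv.2 (by rw [← barV_barV v, e]; funext k; exact map_zero bar)⟩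

theorem iso_smul {v : V} (hv : Coord.Iso M3 v) {c : K4} (hc : c ≠ 0) : Coord.Iso M3 (c • v) :=
  ⟨by rw [J_smul_left, J_smul_right, hv.1, mul_zero, mul_zero], smul_ne_zero hc hv.2⟩

/-- the transvection as a linear map -/
def tvL (v : V) : Lin where
  toFun w := tvI M3 v w
  map_add' w w' := by
    show (w + w') + J M3 (w + w') v • v = (w + J M3 w v • v) + (w' + J M3 w' v • v)
    rw [J_add_left, add_smul]; abel
  map_smul' c w := by
    show c • w + J M3 (c • w) v • v = c • (w + J M3 w v • v)
    rw [J_smul_left, smul_add, smul_smul]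

theorem tvL_apply (v w : V) : tvL v w = w + J M3 w v • v := rfl

theorem K4_add_self : ∀ x : K4, x + x = 0 := by decide +kernel

theorem isU_tvL {v : V} (hv : J M3 v v = 0) : IsU (tvL v) := fun a b => by
  simp only [tvL_apply, J_add_left, J_add_right, J_smul_left, J_smul_right, hv, mul_zero, add_zero]
  rw [← J_conj b v]
  linear_combination K4_add_self (J M3 a v * J M3 v b)

theorem tvL_sq {v : V} (hv : J M3 v v = 0) : tvL v ∘ₗ tvL v = LinearMap.id := by
  refine LinearMap.ext fun w => ?_
  simp only [LinearMap.comp_apply, LinearMap.id_apply, tvL_apply, J_add_left, J_smul_left, hv, mul_zero,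
    add_zero]
  rw [add_assoc, ← add_smul, K4_add_self, zero_smul, add_zero]

theorem det_tvL {v : V} (hv : J M3 v v = 0) : LinearMap.det (tvL v) = 1 := by
  refine eq_one_of_sq _ ?_
  rw [← LinearMap.det_comp, tvL_sq hv, LinearMap.det_id]

variable {G : Type*} [Group G] [Finite G] {D : Set G} {F : Type} [Field F] [Fintype F]
variable {q : G} {C : Ctx D q F} (K : Coord C M3)

/-- `g` acts on the neighbours as `h` on the coordinates -/
def Acts (g : G) (h : Lin) : Prop := ∀ v, Coord.Iso M3 v → g * K.P v * g⁻¹ = K.P (h v)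

/-- every element of the group of the neighbours is an isometry of determinant one -/
theorem lin_of_mem {g : G} (hg : g ∈ Subgroup.closure (perp D q)) :
    ∃ h : Lin, IsU h ∧ LinearMap.det h = 1 ∧ Acts K g h := by
  have gen : ∀ x ∈ perp D q, ∃ v, Coord.Iso M3 v ∧ K.P v = x ∧ x⁻¹ = x := fun x hx => by
    obtain ⟨v, hv, e⟩ := K.exists_P hx
    exact ⟨v, hv, e, inv_eq C.hD.1 hx.1⟩
  have step : ∀ x ∈ perp D q, ∀ y, (∃ h : Lin, IsU h ∧ LinearMap.det h = 1 ∧ Acts K y h) →
      ∃ h : Lin, IsU h ∧ LinearMap.det h = 1 ∧ Acts K (x * y) h := by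
    rintro x hx y ⟨h, hh, hd, ha⟩
    obtain ⟨v, hv, e, einv⟩ := gen x hx
    refine ⟨tvL v ∘ₗ h, (isU_tvL hv.1).comp hh, by rw [LinearMap.det_comp, det_tvL hv.1, hd, one_mul],
      fun w hw => ?_⟩
    calc x * y * K.P w * (x * y)⁻¹ = x * (y * K.P w * y⁻¹) * x⁻¹ := by group
      _ = K.P v * K.P (h w) * K.P v := by rw [ha w hw, einv, e]
      _ = K.P ((tvL v ∘ₗ h) w) := K.P_conj hv (hh.iso hw)
  induction hg using Subgroup.closure_induction_left with
  | one => exact ⟨LinearMap.id, isU_id, LinearMap.det_id, fun v _ => by simp⟩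
  | mul_left x hx y _ ih => exact step x hx y ih
  | inv_mul_cancel x hx y _ ih =>
    obtain ⟨-, -, -, einv⟩ := gen x hx
    rw [einv]
    exact step x hx y ih

/-- every isometry of determinant one is realised -/
theorem exists_of_lin {h : Lin} (hh : IsU h) (hd : LinearMap.det h = 1) :
    ∃ g ∈ Subgroup.closure (perp D q), Acts K g h := by
  classical
  have hspan : ⊤ ≤ Submodule.span F (Set.range K.B) := by
    intro u _
    obtain ⟨v, rfl⟩ := K.L_surj u
    exact Submodule.sum_mem _ fun i _ => Submodule.smul_mem _ _ (Submodule.subset_span ⟨i, rfl⟩)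
  let bB : Module.Basis (Fin 6) F (Fin 6 → F) :=
    basisOfTopLeSpanOfCardEqFinrank K.B hspan (by simp)
  have hbB : ∀ i, bB i = K.B i := fun i => by simp [bB]
  let H : (Fin 6 → F) →ₗ[F] (Fin 6 → F) := bB.constr F fun i => K.L (h (unit i))
  have hH : ∀ v, H (K.L v) = K.L (h v) := by
    intro v
    have hv : v = ∑ i, v i • unit i := by
      funext k; simp [unit, Finset.sum_apply]
    have hL : ∀ (s : Finset (Fin 6)) (f : Fin 6 → V), K.L (∑ i ∈ s, f i) = ∑ i ∈ s, K.L (f i) := by
      intro s f
      induction s using Finset.induction_on with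
      | empty => simp [K.L_zero]
      | insert i s hi ih => rw [Finset.sum_insert hi, Finset.sum_insert hi, K.L_add, ih]
    conv_rhs => rw [hv, map_sum, hL]
    rw [Coord.L, map_sum]
    refine Finset.sum_congr rfl fun i _ => ?_
    rw [map_smul, map_smul, K.L_smul, ← hbB i, Module.Basis.constr_basis]
  have hdet : LinearMap.det H = 1 := by
    rw [← LinearMap.det_toMatrix bB]
    have e : LinearMap.toMatrix bB bB H = (LinearMap.toMatrix' h).map K.ι := by
      ext i j
      rw [LinearMap.toMatrix_apply, Matrix.map_apply, LinearMap.toMatrix'_apply,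
        show bB j = K.L (unit j) by rw [hbB, K.L_unit], hH]
      have e2 : K.L (h (unit j)) = ∑ k, K.ι (h (unit j) k) • bB k := by simp only [hbB]; rfl
      rw [e2, Module.Basis.repr_sum_self]
      rw [show unit j = Pi.single j (1 : K4) from funext fun k => by simp [unit, Pi.single_apply]]
    rw [e, ← RingHom.mapMatrix_apply, ← RingHom.map_det, LinearMap.det_toMatrix', hd, map_one]
  have hpres : ∀ u w, Cfsg.hermForm 6 F 2 (H u) (H w) = Cfsg.hermForm 6 F 2 u w := by
    intro u w
    obtain ⟨u, rfl⟩ := K.L_surj u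
    obtain ⟨w, rfl⟩ := K.L_surj w
    rw [hH, hH, K.herm, K.herm, hh]
  let A : Matrix.SpecialLinearGroup (Fin 6) F :=
    ⟨LinearMap.toMatrix' H, by rw [LinearMap.det_toMatrix', hdet]⟩
  have hA : A ∈ Cfsg.SU 6 F 2 := fun u w => by
    show Cfsg.hermForm 6 F 2 (LinearMap.toMatrix' H *ᵥ u) (LinearMap.toMatrix' H *ᵥ w) = _
    rw [LinearMap.toMatrix'_mulVec, LinearMap.toMatrix'_mulVec, hpres]
  obtain ⟨k, hk⟩ := QuotientGroup.mk_surjective (C.φ ⟨A, hA⟩)
  refine ⟨k.1, k.2, fun v hv => ?_⟩
  rw [Coord.P, C.pt_conj (K.iso_L hv).1 (K.iso_L hv).2 ⟨A, hA⟩ hk, Coord.P]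
  congr 1
  rw [act_def]
  show LinearMap.toMatrix' H *ᵥ K.L v = _
  rw [LinearMap.toMatrix'_mulVec, hH]

end Cfsg.Agent.Lib.FischerOuter90
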