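import Cfsg.Agent.Lib.FischerM23C90.Trace.Steps
import Cfsg.Agent.Lib.FischerUniq91.Main

/-!
Type M(22): the automorphism given by the symmetry of the diagram, as a permutation of the numbered
transpositions.
-/

set_option autoImplicit false
set_option maxRecDepth 20000
set_option Elab.async false
set_option linter.unusedSectionVars false
set_option linter.style.haveILetI false

namespace Cfsg.Agent.Lib.FischerOuter90

open Cfsg.Agent.Lib.CosetEnum Cfsg.Agent.Lib.FischerExist27 Cfsg.Agent.Lib.FischerM23C90.Trace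
open Cfsg.Agent.Lib.Fi22Mult
open Cfsg.Spor.Fi22 (edges)

/-- the points of the nine letters -/
def letterPts : List ℕ := [0, 2, 6, 16, 40, 88, 154, 43, 92]

/-- the point of a letter -/
def lpt (g : ℕ) : ℕ := letterPts.getD g 0

/-- the symmetry of the diagram on letters -/
def sw (g : ℕ) : ℕ := [6, 5, 4, 3, 2, 1, 0, 7, 8].getD g 0

/-- the number of a node -/
def num : Node → ℕ
  | .a => 0
  | .b => 1
  | .c => 2
  | .d => 3
  | .e => 4
  | .f => 5
  | .g => 6
  | .h => 7
  | .i => 8

theorem num_lt : ∀ x, num x < 9 := by decide +kernel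

/-- the image of a point under the symmetry -/
noncomputable def sig (i : ℕ) : ℕ := M22.sc ((path i).map sw) 154

theorem sw_lt : ∀ g, g < 9 → sw g < 9 ∧ sw (sw g) = g ∧ lpt g < 3510 := by decide +kernel

theorem letters_ok : (allBelow 9 fun g => allBelow 3510 fun j =>
    Nat.beq (act (lpt g) j) (M22.sc [g] j)) = true := by
  decide +kernel

theorem sig_invol : (allBelow 3510 fun i => Nat.blt (sig i) 3510 && Nat.beq (sig (sig i)) i) = true := by
  decide +kernel

/-- the relator words of a pair of nodes -/
def pairWord (x y : Node) (n : ℕ) : List ℕ := (List.replicate n [num x, num y]).flatten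

/-- a word fixes the nine letters -/
noncomputable def trivB (l : List ℕ) : Bool := allBelow 9 fun g => Nat.beq (M22.sc l (lpt g)) (lpt g)

theorem extra_triv : trivB (spider.map num) = true ∧ trivB (seven₁.map num) = true ∧
    trivB (seven₂.map num) = true ∧ trivB ((spider.map num).map sw) = true ∧
    trivB ((seven₁.map num).map sw) = true ∧ trivB ((seven₂.map num).map sw) = true := by
  decide +kernel

theorem pair_triv : (allBelow 9 fun x => allBelow 9 fun y =>
    trivB (pairWord (allNodes.getD x .a) (allNodes.getD y .a)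
      (Cfsg.Spor.coxLabel edges (allNodes.getD x .a) (allNodes.getD y .a))) &&
    trivB ((pairWord (allNodes.getD x .a) (allNodes.getD y .a)
      (Cfsg.Spor.coxLabel edges (allNodes.getD x .a) (allNodes.getD y .a))).map sw)) = true := by
  decide +kernel

variable {Q : Type*} [Group Q] [Finite Q] {E : Set Q} {π : ℕ → Q}
variable (M : Model E π)

theorem lpt_lt {g : ℕ} (hg : g < 9) : lpt g < 3510 := (sw_lt g hg).2.2

include M in
/-- a word in the letters moves a point by scanning -/
theorem word_conj : ∀ (l : List ℕ), (∀ g ∈ l, g < 9) → ∀ j < 3510, M22.sc l j < 3510 ∧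
    ((l.map fun g => π (lpt g)).prod)⁻¹ * π j * (l.map fun g => π (lpt g)).prod = π (M22.sc l j) := by
  intro l
  induction l with
  | nil => intro _ j hj; exact ⟨hj, by simp [M22.sc, scan]⟩
  | cons g l ih =>
    intro hl j hj
    have hg : g < 9 := hl g List.mem_cons_self
    have hk := lpt_lt hg
    have e1 := allBelow_iff.1 (allBelow_iff.1 letters_ok g hg) j hj
    rw [Nat.beq_eq] at e1
    have hj' : M22.sc [g] j < 3510 := e1 ▸ M.act_lt _ hk j hj
    have hsplit : M22.sc (g :: l) j = M22.sc l (M22.sc [g] j) := by simp [M22.sc, scan]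
    obtain ⟨h1, h2⟩ := ih (fun x hx => hl x (List.mem_cons_of_mem _ hx)) _ hj'
    refine ⟨hsplit ▸ h1, ?_⟩
    rw [hsplit, ← h2, List.map_cons, List.prod_cons, ← e1, ← M.conj _ hk j hj, mul_inv_rev,
      inv_eq_of_mul_eq_one_right (M.sq _ hk)]
    group

variable (hgen : Subgroup.closure E = ⊤) (hZ : Subgroup.center Q = ⊥)

theorem num_surj : ∀ g : Fin 9, num (allNodes.getD g.1 .a) = g.1 := by decide +kernel

include M in
/-- the path gives the point from the first letter -/
theorem path_conj {i : ℕ} (hi : i < 3510) : (∀ g ∈ path i, g < 9) ∧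
    (((path i).map fun g => π (lpt g)).prod)⁻¹ * π 0 * ((path i).map fun g => π (lpt g)).prod = π i := by
  have h := allBelow_iff.1 path_ok i hi
  rw [Bool.and_eq_true, Nat.beq_eq, List.all_eq_true] at h
  have h2 : ∀ g ∈ path i, g < 9 := fun g hg => by simpa using h.2 g hg
  refine ⟨h2, ?_⟩
  rw [(word_conj M _ h2 0 (by norm_num)).2, h.1]

include M hgen in
/-- the letters generate -/
theorem letters_gen (H : Subgroup Q) (h : ∀ g < 9, π (lpt g) ∈ H) : H = ⊤ := by
  rw [eq_top_iff, ← hgen, Subgroup.closure_le]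
  intro y hy
  obtain ⟨i, hi, rfl⟩ := M.surj y hy
  obtain ⟨h2, e⟩ := path_conj M hi
  have hw : ((path i).map fun g => π (lpt g)).prod ∈ H := by
    refine list_prod_mem fun y hy => ?_
    obtain ⟨g, hg, rfl⟩ := List.mem_map.1 hy
    exact h g (h2 g hg)
  rw [← e]
  exact mul_mem (mul_mem (inv_mem hw) (h 0 (by norm_num))) hw

include M hgen hZ in
theorem word_one {l : List ℕ} (hl : ∀ g ∈ l, g < 9) (h : trivB l = true) :
    (l.map fun g => π (lpt g)).prod = 1 := by
  set w := (l.map fun g => π (lpt g)).prod with hwdef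
  have hc : w ∈ Subgroup.center Q := by
    have htop := letters_gen M hgen (Subgroup.centralizer ({w} : Set Q)) fun g hg => by
      have hfix := allBelow_iff.1 h g hg
      rw [Nat.beq_eq] at hfix
      have e := (word_conj M l hl _ (lpt_lt hg)).2
      rw [← hwdef, hfix, mul_assoc, inv_mul_eq_iff_eq_mul] at e
      exact Subgroup.mem_centralizer_singleton_iff.2 e
    exact Subgroup.mem_center_iff.2 fun x =>
      Subgroup.mem_centralizer_singleton_iff.1 (htop ▸ Subgroup.mem_top x)
  rwa [hZ, Subgroup.mem_bot] at hc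

theorem node_num : ∀ x : Node, allNodes.getD (num x) .a = x := by decide +kernel

attribute [local irreducible] trivB

include M hgen hZ in
/-- a relabelling of the letters satisfying the checks gives a homomorphism from the presented group -/
theorem exists_hom (f : ℕ → ℕ) (hf : ∀ g < 9, f g < 9)
    (he : trivB ((spider.map num).map f) = true ∧ trivB ((seven₁.map num).map f) = true ∧
      trivB ((seven₂.map num).map f) = true)
    (hp : ∀ x y : Node, trivB ((pairWord x y (Cfsg.Spor.coxLabel edges x y)).map f) = true) :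
    ∃ φ : Cfsg.Spor.Fi22 →* Q, ∀ x, φ (gen₂₂ x) = π (lpt (f (num x))) := by
  have hw : ∀ l : List Node, trivB ((l.map num).map f) = true → wp (fun x => π (lpt (f (num x)))) l = 1 := by
    intro l h
    rw [← word_one M hgen hZ (l := (l.map num).map f) (by
      intro g hg
      simp only [List.mem_map] at hg
      obtain ⟨_, ⟨x, -, rfl⟩, rfl⟩ := hg
      exact hf _ (num_lt x)) h, wp, List.map_map, List.map_map]
    rfl
  have hr : ∀ r ∈ Cfsg.Spor.coxRelators edges ∪ {r | r ∈ Cfsg.Spor.Fi22.extra},
      FreeGroup.lift (fun x => π (lpt (f (num x)))) r = 1 := by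
    rintro r (⟨x, -, y, -, rfl⟩ | hr)
    · rw [map_pow, map_mul, FreeGroup.lift_apply_of, FreeGroup.lift_apply_of]
      have h := hp x y
      generalize Cfsg.Spor.coxLabel edges x y = n at h ⊢
      rw [← word_one M hgen hZ (l := (pairWord x y n).map f) (by
        intro g hg
        simp only [pairWord, List.mem_map, List.mem_flatten, List.mem_replicate] at hg
        obtain ⟨_, ⟨_, ⟨-, rfl⟩, hm⟩, rfl⟩ := hg
        rcases List.mem_cons.1 hm with rfl | hm
        · exact hf _ (num_lt x)
        · rw [List.mem_singleton.1 hm]; exact hf _ (num_lt y)) h, pairWord]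
      clear h
      induction n with
      | zero => simp
      | succ n ih =>
        rw [List.replicate_succ, List.flatten_cons, List.map_append, List.map_append, List.prod_append, ← ih,
          pow_succ']
        simp only [List.map_cons, List.map_nil, List.prod_cons, List.prod_nil, mul_one]
    · rw [Set.mem_ofPred_eq, extra_eq] at hr
      simp only [List.mem_cons, List.not_mem_nil, or_false] at hr
      rcases hr with rfl | rfl | rfl <;> rw [lift_word] <;> apply hw
      exacts [he.1, he.2.1, he.2.2]
  exact ⟨PresentedGroup.toGroup hr, fun x => PresentedGroup.toGroup.of hr⟩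

include M hgen hZ in
/-- the automorphism of the symmetry -/
theorem exists_sigma (hQ : 1 < Nat.card Q) : ∃ s : MulAut Q, (∀ i < 3510, s (π i) = π (sig i)) ∧ s * s = 1 := by
  obtain ⟨e1, e2, e3, e4, e5, e6⟩ := extra_triv
  have hpair : ∀ x y : Node, trivB (pairWord x y (Cfsg.Spor.coxLabel edges x y)) = true ∧
      trivB ((pairWord x y (Cfsg.Spor.coxLabel edges x y)).map sw) = true := fun x y => by
    have h := allBelow_iff.1 (allBelow_iff.1 pair_triv _ (num_lt x)) _ (num_lt y)
    rw [node_num, node_num, Bool.and_eq_true] at h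
    exact h
  obtain ⟨φ, hφ⟩ := exists_hom M hgen hZ id (fun _ h => h)
    ⟨by rwa [List.map_id], by rwa [List.map_id], by rwa [List.map_id]⟩
    (fun x y => by rw [List.map_id]; exact (hpair x y).1)
  obtain ⟨φ', hφ'⟩ := exists_hom M hgen hZ sw (fun g hg => (sw_lt g hg).1) ⟨e4, e5, e6⟩
    (fun x y => (hpair x y).2)
  have hpre : ∀ g < 9, φ (gen₂₂ (allNodes.getD g .a)) = π (lpt g) := fun g hg => by
    rw [hφ, id, num_surj ⟨g, hg⟩]
  have hsurj : Function.Surjective φ :=
    MonoidHom.range_eq_top.1 (letters_gen M hgen _ fun g hg => ⟨_, hpre g hg⟩)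
  haveI hsimple : IsSimpleGroup Cfsg.Spor.Fi22 := Cfsg.Agent.S1696.result.1
  have hinj : Function.Injective φ := by
    rw [← MonoidHom.ker_eq_bot_iff]
    refine (MonoidHom.normal_ker φ).eq_bot_or_eq_top.resolve_right fun h => ?_
    haveI : Subsingleton Q := ⟨fun a b => by
      obtain ⟨a, rfl⟩ := hsurj a
      obtain ⟨b, rfl⟩ := hsurj b
      rw [MonoidHom.mem_ker.1 (h ▸ Subgroup.mem_top a), MonoidHom.mem_ker.1 (h ▸ Subgroup.mem_top b)]⟩
    rw [Nat.card_of_subsingleton (1 : Q)] at hQ
    exact lt_irrefl _ hQ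
  let e := MulEquiv.ofBijective φ ⟨hinj, hsurj⟩
  let ψ : Q →* Q := φ'.comp e.symm.toMonoidHom
  have hψl : ∀ g < 9, ψ (π (lpt g)) = π (lpt (sw g)) := fun g hg => by
    show φ' (e.symm (π (lpt g))) = _
    rw [show π (lpt g) = e (gen₂₂ (allNodes.getD g .a)) from (hpre g hg).symm, e.symm_apply_apply, hφ',
      num_surj ⟨g, hg⟩]
  have hψ : ∀ i < 3510, ψ (π i) = π (sig i) := fun i hi => by
    obtain ⟨h2, e0⟩ := path_conj M hi
    have hmap : ∀ l : List ℕ, (∀ g ∈ l, g < 9) →
        ψ (l.map fun g => π (lpt g)).prod = ((l.map sw).map fun g => π (lpt g)).prod := fun l hl => by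
      rw [map_list_prod, List.map_map, List.map_map]
      exact congrArg List.prod (List.map_congr_left fun g hg => hψl g (hl g hg))
    have h0 : ψ (π 0) = π 154 := hψl 0 (by norm_num)
    rw [← e0, map_mul, map_mul, map_inv, hmap _ h2, h0]
    refine (word_conj M _ (fun g hg => ?_) 154 (by norm_num)).2
    obtain ⟨g, hg', rfl⟩ := List.mem_map.1 hg
    exact (sw_lt g (h2 g hg')).1
  have hinv : ∀ y, ψ (ψ y) = y := by
    have : ψ.comp ψ = MonoidHom.id Q := MonoidHom.eq_of_eqOn_top (fun y _ => by
      refine MonoidHom.eqOn_closure (f := ψ.comp ψ) (g := MonoidHom.id Q) (fun x hx => ?_)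
        (hgen ▸ Subgroup.mem_top y)
      obtain ⟨i, hi, rfl⟩ := M.surj x hx
      have hs := allBelow_iff.1 sig_invol i hi
      rw [Bool.and_eq_true, Nat.blt_eq, Nat.beq_eq] at hs
      show ψ (ψ (π i)) = π i
      rw [hψ i hi, hψ _ hs.1, hs.2])
    exact fun y => DFunLike.congr_fun this y
  exact ⟨{ toFun := ψ, invFun := ψ, left_inv := hinv, right_inv := hinv, map_mul' := map_mul ψ },
    hψ, MulEquiv.ext hinv⟩

end Cfsg.Agent.Lib.FischerOuter90
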